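import Cfsg.Agent.CosetCert.Fi24Index.Main
import Cfsg.Agent.CosetCert.Fi24Suborbits.Main
import Cfsg.Agent.CosetCert.Y522Order.Main
import Cfsg.Agent.CosetCert.Fi23Order.Main

/-!
The presented group Fi24 and its action on the 306936 cosets of the subgroup on all nodes but `k`:
that subgroup is a double cover of Fi23 by `l`, and the action is faithful.
-/

set_option maxRecDepth 100000
set_option autoImplicit false

namespace Cfsg.Agent.Fi24

open Cfsg.Agent.CosetCert

/-- The relators of Fi24. -/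
abbrev R : Set (FreeGroup Cfsg.Spor.Fi24.Gen) :=
  Cfsg.Spor.coxRelators Cfsg.Spor.Fi24.edges ∪ {r | r ∈ Cfsg.Spor.Fi24.extra}

/-- The presented group. -/
abbrev G : Type := PresentedGroup R

/-- The subgroup on all nodes but `k`. -/
abbrev H : Subgroup G := Data.sub R Fi24Index.subGens

/-- A generator. -/
abbrev gen (x : Cfsg.Spor.Fi24.Gen) : G := PresentedGroup.of x

/-- The element of a word in the numbers of the generators. -/
noncomputable def el (w : List Nat) : G :=
  PresentedGroup.mk R (FreeGroup.mk (w.map Fi24Index.dec))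

/-- The action on the cosets. -/
noncomputable def φ : G →* Equiv.Perm (Fin 306936) :=
  (Data.enumeration Fi24Index.valid Fi24Index.spells).choose

/-- Points as cosets. -/
noncomputable def π : Fin 306936 ≃ G ⧸ H :=
  (Data.enumeration Fi24Index.valid Fi24Index.spells).choose_spec.choose

theorem π_φ (g : G) (c : Fin 306936) : π (φ g c) = g • π c :=
  (Data.enumeration Fi24Index.valid Fi24Index.spells).choose_spec.choose_spec.1 g c

theorem φ_el (w : List Nat) (hw : ∀ x ∈ w, x < 12) (c : Fin 306936) :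
    (((φ (el w))⁻¹ c : Fin 306936) : Nat) = Fi24Index.data.fwd w c := by
  refine ((Data.enumeration Fi24Index.valid Fi24Index.spells).choose_spec.choose_spec.2
    (w.map Fi24Index.dec) c).trans ?_
  refine congrArg (fun v => Fi24Index.data.fwd v c) ?_
  rw [List.map_map]
  conv_rhs => rw [← List.map_id w]
  exact List.map_congr_left fun x hx => Fi24Index.spells.code_dec x (hw x hx)

theorem gen_sq (x : Cfsg.Spor.Fi24.Gen) : gen x * gen x = 1 := by
  have hn : x ∈ Cfsg.Spor.coxNodes Cfsg.Spor.Fi24.edges := by cases x <;> decide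
  exact PresentedGroup.one_of_mem (rels := R)
    (x := FreeGroup.of x * FreeGroup.of x)
    (Or.inl ⟨x, hn, x, hn, by simp [Cfsg.Spor.coxLabel]⟩)

theorem gen_inv (x : Cfsg.Spor.Fi24.Gen) : (gen x)⁻¹ = gen x :=
  inv_eq_of_mul_eq_one_right (gen_sq x)

theorem el_nil : el [] = 1 := map_one _

theorem el_single {x : Nat} (hx : x < 12) : el [x] = gen (Fi24Index.dec x).1 := by
  interval_cases x <;> rfl

theorem el_append (u v : List Nat) : el (u ++ v) = el u * el v := by
  rw [el, el, el, List.map_append, ← map_mul, FreeGroup.mul_mk]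

theorem el_reverse : ∀ {w : List Nat}, (∀ x ∈ w, x < 12) → el w.reverse = (el w)⁻¹ := by
  intro w
  induction w with
  | nil => intro _; rw [List.reverse_nil, el_nil, inv_one]
  | cons x t ih =>
    intro hw
    rw [List.reverse_cons, el_append, ih fun y hy => hw y (List.mem_cons_of_mem _ hy),
      el_single (hw x (List.mem_cons_self ..)), show x :: t = [x] ++ t from rfl, el_append,
      el_single (hw x (List.mem_cons_self ..)), mul_inv_rev, gen_inv]

/-- Following a word backwards. -/
theorem φ_apply (w : List Nat) (hw : ∀ x ∈ w, x < 12) (c : Fin 306936) :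
    ((φ (el w) c : Fin 306936) : Nat) = Fi24Index.data.fwd w.reverse c := by
  have hr : ∀ x ∈ w.reverse, x < 12 := fun x hx => hw x (List.mem_reverse.1 hx)
  rw [← φ_el _ hr, el_reverse hw, map_inv, inv_inv]

theorem gen_mem {x : Cfsg.Spor.Fi24.Gen} (hx : x ≠ .k) : gen x ∈ H := by
  refine Subgroup.mem_map.2 ⟨FreeGroup.of x, Subgroup.subset_closure ?_, rfl⟩
  cases x <;> first | exact absurd rfl hx | simp [Fi24Index.subGens]

theorem H_induction {p : G → Prop} (hgen : ∀ x, x ≠ Cfsg.Spor.Fi24.Gen.k → p (gen x))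
    (h1 : p 1) (hmul : ∀ u v, p u → p v → p (u * v)) (hinv : ∀ u, p u → p u⁻¹)
    {g : G} (hg : g ∈ H) : p g := by
  obtain ⟨s, hs, rfl⟩ := Subgroup.mem_map.1 hg
  clear hg
  induction hs using Subgroup.closure_induction with
  | mem s hs =>
    simp only [Fi24Index.subGens, List.mem_cons, List.not_mem_nil, or_false,
      Set.mem_ofPred_eq] at hs
    rcases hs with rfl | rfl | rfl | rfl | rfl | rfl | rfl | rfl | rfl | rfl | rfl
    all_goals exact hgen _ (by decide)
  | one => rw [map_one]; exact h1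
  | mul u v _ _ hu hv => rw [map_mul]; exact hmul _ _ hu hv
  | inv u _ hu => rw [map_inv]; exact hinv _ hu

theorem el_mem : ∀ {w : List Nat}, (∀ x ∈ w, 0 < x ∧ x < 12) → el w ∈ H := by
  intro w
  induction w with
  | nil => intro _; rw [el_nil]; exact one_mem _
  | cons x t ih =>
    intro hw
    obtain ⟨hx0, hx⟩ := hw x (List.mem_cons_self ..)
    rw [show x :: t = [x] ++ t from rfl, el_append, el_single hx]
    refine mul_mem (gen_mem ?_) (ih fun y hy => hw y (List.mem_cons_of_mem _ hy))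
    interval_cases x <;> decide

/-- The base point. -/
def c0 : Fin 306936 := ⟨0, by norm_num⟩

theorem φ_H_c0 {g : G} (hg : g ∈ H) : φ g c0 = c0 := by
  refine H_induction (p := fun g => φ g c0 = c0) (fun x hx => ?_) (by simp)
    (fun u v hu hv => by rw [map_mul, Equiv.Perm.mul_apply, hv, hu])
    (fun u hu => by rw [map_inv, Equiv.Perm.inv_eq_iff_eq, hu]) hg
  have h := φ_apply [Fi24Index.enc x] (fun y hy => by
    rw [List.mem_singleton.1 hy]; exact (Fi24Index.spells.enc_lt x).1) c0
  rw [el_single (Fi24Index.spells.enc_lt x).1, (Fi24Index.spells.enc_lt x).2] at h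
  apply Fin.ext
  rw [h]
  cases x <;> first | exact absurd rfl hx | decide +kernel

/-- The orbits of `H` are within the listed parts: a point is moved from its root by `H`. -/
theorem exists_mem_H (c : Fin 306936) :
    ∃ r : Fin 306936, (r : Nat) = Fi24Suborbits.rootOf (Fi24Suborbits.cls c) ∧
      ∃ h ∈ H, φ h r = c := by
  have hr : Fi24Suborbits.rootOf (Fi24Suborbits.cls c) < 306936 := by
    rcases Fi24Suborbits.cls_cases c with e | e | e <;> rw [e] <;> decide +kernel
  obtain ⟨w, hw, hfw⟩ := Fi24Suborbits.reach c.2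
  refine ⟨⟨_, hr⟩, rfl, el w.reverse, el_mem fun x hx => hw x (List.mem_reverse.1 hx), Fin.ext ?_⟩
  rw [φ_apply _ fun x hx => (hw x (List.mem_reverse.1 hx)).2, List.reverse_reverse]
  exact hfw

theorem fixed_eq_c0 (c : Fin 306936) (hc : ∀ h ∈ H, φ h c = c) : c = c0 := by
  obtain ⟨r, hr, h, hh, hrc⟩ := exists_mem_H c
  have hr' : r = c := by
    have := hc h⁻¹ (inv_mem hh)
    rw [← hrc, ← Equiv.Perm.mul_apply, ← map_mul, inv_mul_cancel, map_one,
      Equiv.Perm.one_apply] at this
    rw [this, hrc]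
  rcases Fi24Suborbits.cls_cases c with h0 | h1
  · exact Fin.ext (Fi24Suborbits.cls_zero c.2 h0)
  exfalso
  have hall : ∀ d ∈ Fi24Suborbits.part (Fi24Suborbits.cls c), d = c := by
    intro d hd
    obtain ⟨r', hr'', h', hh', hd'⟩ := exists_mem_H d
    rw [(Finset.mem_filter.1 hd).2] at hr''
    have e : r' = c := (Fin.ext (hr''.trans hr.symm)).trans hr'
    rw [← hd', e, hc h' hh']
  have hle : (Fi24Suborbits.part (Fi24Suborbits.cls c)).card ≤ 1 :=
    Finset.card_le_one.2 fun a ha b hb => (hall a ha).trans (hall b hb).symm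
  rcases h1 with e | e <;> rw [e] at hle
  · rw [Fi24Suborbits.part_card.1] at hle; omega
  · rw [Fi24Suborbits.part_card.2] at hle; omega

theorem π_c0 : π c0 = ((1 : G) : G ⧸ H) := by
  have h : π.symm ((1 : G) : G ⧸ H) = c0 := fixed_eq_c0 _ fun h hh => by
    apply π.injective
    rw [π_φ, Equiv.apply_symm_apply]
    show ((h * 1 : G) : G ⧸ H) = _
    rw [QuotientGroup.eq]
    simpa using hh
  rw [← h, Equiv.apply_symm_apply]

theorem fix_iff {g : G} : φ g c0 = c0 ↔ g ∈ H := by
  refine ⟨fun h => ?_, φ_H_c0⟩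
  have h1 := congrArg π h
  rw [π_φ, π_c0] at h1
  have h2 : ((g * 1 : G) : G ⧸ H) = ((1 : G) : G ⧸ H) := h1
  rw [mul_one, QuotientGroup.eq, mul_one] at h2
  simpa using inv_mem h2

theorem transitive (c : Fin 306936) : ∃ g, φ g c0 = c := by
  obtain ⟨g, hg⟩ := QuotientGroup.mk_surjective (π c)
  refine ⟨g, π.injective ?_⟩
  rw [π_φ, π_c0, ← hg]
  show ((g * 1 : G) : G ⧸ H) = _
  rw [mul_one]

/-- The names of the nodes of Fi23 among those of Fi24. -/
def node : Cfsg.Spor.Fi23.Gen → Cfsg.Spor.Fi24.Gen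
  | .a => .a
  | .b => .b
  | .c => .c
  | .d => .d
  | .e => .e
  | .f => .f
  | .g => .g
  | .j => .j
  | .h => .h
  | .i => .i

theorem node_ne (x : Cfsg.Spor.Fi23.Gen) : node x ≠ .k := by cases x <;> decide

/-- The transposition `l`. -/
abbrev L : G := gen .l

theorem L_mem : L ∈ H := gen_mem (by decide)

theorem L_comm {h : G} (hh : h ∈ H) : h * L = L * h := by
  refine H_induction (p := fun g => g * L = L * g) (fun x hx => ?_) (by simp)
    (fun u v hu hv => by rw [mul_assoc, hv, ← mul_assoc, hu, mul_assoc])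
    (fun u hu => (Commute.inv_left (show Commute u L from hu))) hh
  by_cases hl : x = .l
  · rw [hl]
  have hn : ∀ z : Cfsg.Spor.Fi24.Gen, z ∈ Cfsg.Spor.coxNodes Cfsg.Spor.Fi24.edges := by
    intro z; cases z <;> decide
  have hm : Cfsg.Spor.coxLabel Cfsg.Spor.Fi24.edges x .l = 2 := by
    cases x <;> first | exact absurd rfl hx | exact absurd rfl hl | decide
  have h : (gen x * L) ^ 2 = 1 := by
    have h := PresentedGroup.one_of_mem (rels := R)
      (x := (FreeGroup.of x * FreeGroup.of .l) ^ 2)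
      (Or.inl ⟨x, hn x, .l, hn _, by rw [hm]⟩)
    rwa [map_pow, map_mul] at h
  rw [pow_two] at h
  have h' := eq_inv_of_mul_eq_one_left h
  rwa [mul_inv_rev, gen_inv, gen_inv] at h'

theorem L_eq : L = (gen .a * gen .b * gen .c * gen .d * gen .e * gen .f * gen .h) ^ 9 := by
  have h := PresentedGroup.one_of_mem (rels := R)
    (x := Cfsg.Spor.Fi24.extra.head (by simp [Cfsg.Spor.Fi24.extra]))
    (Or.inr (List.head_mem _))
  simp only [Cfsg.Spor.Fi24.extra, List.head_cons, map_mul, map_inv, map_pow] at h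
  exact mul_inv_eq_one.1 h

/-- The subgroup generated by `l`, inside `H`. -/
noncomputable def Z : Subgroup H := Subgroup.zpowers ⟨L, L_mem⟩

instance : Z.Normal := ⟨fun z hz g => by
  obtain ⟨i, rfl⟩ := Subgroup.mem_zpowers_iff.1 hz
  have hc : Commute g ⟨L, L_mem⟩ := Subtype.ext (L_comm g.2)
  rw [(hc.zpow_right i).eq, mul_inv_cancel_right]
  exact Subgroup.zpow_mem_zpowers _ i⟩

theorem mem_Z {z : H} (hz : z ∈ Z) : z = 1 ∨ (z : G) = L := by
  obtain ⟨i, rfl⟩ := Subgroup.mem_zpowers_iff.1 hz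
  have h2 : (⟨L, L_mem⟩ : H) ^ (2 : ℤ) = 1 := Subtype.ext (by rw [zpow_two, Subgroup.coe_mul]; exact gen_sq _)
  rcases Int.even_or_odd' i with ⟨m, rfl | rfl⟩
  · left; rw [zpow_mul, h2, one_zpow]
  · right; rw [zpow_add, zpow_mul, h2, one_zpow, one_mul, zpow_one]

/-- The nodes of Fi23 in `H`. -/
noncomputable def lift23 : FreeGroup Cfsg.Spor.Fi23.Gen →* H :=
  FreeGroup.lift fun x => ⟨gen (node x), gen_mem (node_ne x)⟩

theorem lift23_val (r : FreeGroup Cfsg.Spor.Fi23.Gen) :
    (lift23 r : G) = PresentedGroup.mk R (FreeGroup.map node r) := by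
  have e : H.subtype.comp lift23 = (PresentedGroup.mk R).comp (FreeGroup.map node) :=
    FreeGroup.ext_hom _ _ fun x => by simp [lift23, PresentedGroup.of]
  exact DFunLike.congr_fun e r

theorem rels23_mem : ∀ r ∈ Cfsg.Spor.coxRelators Cfsg.Spor.Fi23.edges ∪
    {r | r ∈ Cfsg.Spor.Fi23.extra}, lift23 r ∈ Z := by
  rintro r (⟨x, -, y, -, rfl⟩ | hr)
  · have hn : ∀ z : Cfsg.Spor.Fi24.Gen, z ∈ Cfsg.Spor.coxNodes Cfsg.Spor.Fi24.edges := by
      intro z; cases z <;> decide
    have hm : Cfsg.Spor.coxLabel Cfsg.Spor.Fi24.edges (node x) (node y) =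
        Cfsg.Spor.coxLabel Cfsg.Spor.Fi23.edges x y := by
      cases x <;> cases y <;> decide
    convert one_mem Z
    refine Subtype.ext ?_
    rw [lift23_val, map_pow, map_mul, FreeGroup.map.of, FreeGroup.map.of, OneMemClass.coe_one,
      ← hm]
    exact PresentedGroup.one_of_mem (Or.inl ⟨node x, hn _, node y, hn _, rfl⟩)
  · simp only [Cfsg.Spor.Fi23.extra, List.mem_cons, List.not_mem_nil, or_false,
      Set.mem_ofPred_eq] at hr
    rcases hr with rfl | rfl
    · convert one_mem Z
      refine Subtype.ext ?_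
      rw [lift23_val, OneMemClass.coe_one, map_pow, map_pow]
      simp only [map_mul, FreeGroup.map.of]
      simp only [node]
      simpa only [map_mul] using Y522Order.spider_ten
    · have e : lift23 ((Cfsg.Spor.Fi23.a * Cfsg.Spor.Fi23.b * Cfsg.Spor.Fi23.c *
          Cfsg.Spor.Fi23.d * Cfsg.Spor.Fi23.e * Cfsg.Spor.Fi23.f * Cfsg.Spor.Fi23.h) ^ 9) =
          ⟨L, L_mem⟩ := by
        refine Subtype.ext ?_
        rw [lift23_val, map_pow, map_pow]
        simp only [map_mul, FreeGroup.map.of]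
        exact L_eq.symm
      rw [e]
      exact Subgroup.mem_zpowers _

/-- Fi23 onto `H` modulo `l`. -/
noncomputable def θ : Cfsg.Spor.Fi23 →* H ⧸ Z :=
  PresentedGroup.toGroup (f := fun x => QuotientGroup.mk' Z ⟨gen (node x), gen_mem (node_ne x)⟩)
    fun r hr => by
      have e : FreeGroup.lift (fun x => QuotientGroup.mk' Z ⟨gen (node x), gen_mem (node_ne x)⟩) =
          (QuotientGroup.mk' Z).comp lift23 :=
        FreeGroup.ext_hom _ _ fun x => by simp [lift23]
      rw [e, MonoidHom.comp_apply]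
      exact (QuotientGroup.eq_one_iff _).2 (rels23_mem r hr)

theorem θ_surjective : Function.Surjective θ := by
  intro q
  obtain ⟨⟨g, hg⟩, rfl⟩ := QuotientGroup.mk_surjective q
  have key : ∃ hg : g ∈ H, ((⟨g, hg⟩ : H) : H ⧸ Z) ∈ θ.range := by
    refine H_induction (p := fun g => ∃ hg : g ∈ H, ((⟨g, hg⟩ : H) : H ⧸ Z) ∈ θ.range)
      (fun x hx => ?_) ⟨one_mem _, one_mem _⟩ ?_ ?_ hg
    · refine ⟨gen_mem hx, ?_⟩
      by_cases hl : x = .l
      · subst hl
        have e : ((⟨L, L_mem⟩ : H) : H ⧸ Z) = 1 :=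
          (QuotientGroup.eq_one_iff _).2 (Subgroup.mem_zpowers _)
        show ((⟨L, L_mem⟩ : H) : H ⧸ Z) ∈ θ.range
        rw [e]
        exact one_mem _
      · obtain ⟨y, rfl⟩ : ∃ y, node y = x := by
          cases x <;> first
            | exact absurd rfl hx | exact absurd rfl hl
            | exact ⟨.a, rfl⟩ | exact ⟨.b, rfl⟩ | exact ⟨.c, rfl⟩ | exact ⟨.d, rfl⟩
            | exact ⟨.e, rfl⟩ | exact ⟨.f, rfl⟩ | exact ⟨.g, rfl⟩ | exact ⟨.j, rfl⟩
            | exact ⟨.h, rfl⟩ | exact ⟨.i, rfl⟩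
        exact ⟨PresentedGroup.of y, PresentedGroup.toGroup.of _⟩
    · rintro u v ⟨hu, hu'⟩ ⟨hv, hv'⟩
      exact ⟨mul_mem hu hv, mul_mem hu' hv'⟩
    · rintro u ⟨hu, hu'⟩
      exact ⟨inv_mem hu, inv_mem hu'⟩
  obtain ⟨_, hmem⟩ := key
  exact hmem

/-- A point moved by a word is a sign that the element is not trivial. -/
theorem ne_of_fwd {u v : List Nat} (hu : ∀ x ∈ u, x < 12) (hv : ∀ x ∈ v, x < 12) {c : Nat}
    (hc : c < 306936) (h : Fi24Index.data.fwd u c ≠ Fi24Index.data.fwd v c) :
    φ (el u) ≠ φ (el v) := by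
  intro e
  apply h
  rw [← φ_el u hu ⟨c, hc⟩, ← φ_el v hv ⟨c, hc⟩, e]

theorem φ_separates : φ L ≠ 1 ∧ φ (gen .a) ≠ 1 ∧ φ (gen .a) ≠ φ L := by
  have hL : el [11] = L := el_single (by norm_num)
  have hA : el [1] = gen .a := el_single (by norm_num)
  rw [← hL, ← hA, ← map_one φ, ← el_nil]
  exact ⟨ne_of_fwd (c := 3) (by decide) (by decide) (by norm_num) (by decide +kernel),
    ne_of_fwd (c := 3) (by decide) (by decide) (by norm_num) (by decide +kernel),
    ne_of_fwd (c := 3) (by decide) (by decide) (by norm_num) (by decide +kernel)⟩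

theorem kernel_H : Function.Injective θ ∧ ∀ h : H, φ (h : G) = 1 → h = 1 := by
  let K : Subgroup H := (φ.comp H.subtype).ker
  have hM : ((K.map (QuotientGroup.mk' Z)).comap θ).Normal :=
    Subgroup.Normal.comap (Subgroup.Normal.map inferInstance _ (QuotientGroup.mk'_surjective Z)) θ
  haveI := Fi23Order.order_and_simple.1
  rcases hM.eq_bot_or_eq_top with h | h
  · refine ⟨?_, fun x hx => ?_⟩
    · rw [← MonoidHom.ker_eq_bot_iff, eq_bot_iff]
      intro y hy
      rw [← h, Subgroup.mem_comap, MonoidHom.mem_ker.1 hy]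
      exact one_mem _
    · obtain ⟨y, hy⟩ := θ_surjective (QuotientGroup.mk' Z x)
      have hy1 : y = 1 := by
        rw [← Subgroup.mem_bot, ← h, Subgroup.mem_comap, hy]
        exact Subgroup.mem_map_of_mem _ hx
      rw [hy1, map_one] at hy
      rcases mem_Z ((QuotientGroup.eq_one_iff _).1 hy.symm) with e | e
      · exact e
      · exact absurd (by rw [← e]; exact hx) φ_separates.1
  · exfalso
    let A : H := ⟨gen .a, gen_mem (by decide)⟩
    obtain ⟨y, hy⟩ := θ_surjective (QuotientGroup.mk' Z A)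
    have hmem : θ y ∈ K.map (QuotientGroup.mk' Z) := by
      rw [← Subgroup.mem_comap, h]; trivial
    rw [hy] at hmem
    obtain ⟨x, hx, hxA⟩ := hmem
    have hz : x⁻¹ * A ∈ Z := QuotientGroup.eq.1 hxA
    have hx' : φ (x : G) = 1 := hx
    have hA : φ (gen .a) = φ ((x⁻¹ * A : H) : G) := by
      rw [Subgroup.coe_mul, Subgroup.coe_inv, map_mul, map_inv, hx', inv_one, one_mul]
    rcases mem_Z hz with e | e
    · rw [e, OneMemClass.coe_one, map_one] at hA; exact φ_separates.2.1 hA
    · rw [e] at hA; exact φ_separates.2.2 hA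

theorem φ_injective : Function.Injective φ := by
  rw [← MonoidHom.ker_eq_bot_iff, eq_bot_iff]
  intro g hg
  rw [MonoidHom.mem_ker] at hg
  have hH : g ∈ H := fix_iff.1 (by rw [hg]; rfl)
  exact congrArg Subtype.val (kernel_H.2 ⟨g, hH⟩ hg)

theorem L_ne_one : L ≠ 1 := fun h => φ_separates.1 (by rw [h, map_one])

theorem card_Z : Nat.card Z = 2 := by
  rw [Z, Nat.card_zpowers]
  refine orderOf_eq_prime ?_ ?_
  · exact Subtype.ext (by simpa [pow_two] using gen_sq _)
  · exact fun h => L_ne_one (congrArg Subtype.val h)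

theorem card_H : Nat.card H = 2 * 4089470473293004800 := by
  rw [Subgroup.card_eq_card_quotient_mul_card_subgroup Z, card_Z,
    ← Nat.card_congr (Equiv.ofBijective θ ⟨kernel_H.1, θ_surjective⟩),
    Fi23Order.order_and_simple.2, Nat.mul_comm]

theorem card_G : Nat.card G = 2 * 1255205709190661721292800 := by
  rw [← H.card_mul_index, card_H, Fi24Index.index_val]

instance finite_G : Finite G := Nat.finite_of_card_ne_zero (by rw [card_G]; norm_num)

end Cfsg.Agent.Fi24
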