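import Mathlib

/-! Generated: a copy of the Held group in Fi24, by words in the nodes. -/

set_option maxRecDepth 100000
set_option Elab.async false

namespace Cfsg.Agent.Fi24

/-- The image of `a`. -/
def wordA : List Nat := [5, 8, 9, 7, 8, 4, 7, 3, 4, 5, 10, 9, 8, 7, 4, 3, 2, 3, 4, 7, 8, 9, 10, 5, 4, 3, 7, 4, 8, 7, 9, 8, 5, 5, 7, 8, 4, 7, 3, 4, 5, 10, 9, 8, 7, 4, 3, 2, 1, 2, 3, 4, 7, 8, 9, 10, 5, 4, 3, 7, 4, 8, 7, 5, 7, 4, 5, 3, 4, 7, 2, 3, 4, 5, 10, 9, 8, 7, 4, 3, 2, 1, 2, 3, 4, 7, 8, 9, 10, 5, 4, 3, 2, 7, 4, 3, 5, 4, 7, 2, 3, 4, 5, 9, 7, 8, 4, 7, 3, 4, 5, 10, 9, 8, 7, 4, 3, 2, 3, 4, 7, 8, 9, 10, 5, 4, 3, 7, 4, 8,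 7, 9, 5, 4, 3, 2, 9, 8, 7, 4, 3, 2, 3, 4, 7, 8, 9, 7, 4, 3, 2, 1, 2, 3, 4, 7, 4, 5, 10, 9, 8, 7, 4, 3, 4, 7, 8, 9, 10, 5, 4, 4, 5, 10, 9, 8, 7, 4, 3, 4, 7, 8, 9, 10, 5, 4, 9, 8, 7, 4, 7, 8, 9, 9, 8, 7, 4, 7, 8, 9, 4, 5, 7, 8, 4, 7, 2, 3, 4, 5, 10, 9, 8, 7, 4, 3, 2, 1, 2, 3, 4, 7, 8, 9, 10, 5, 4, 3, 2, 7, 4, 8, 7, 5, 4, 3, 4, 5, 9, 7, 8, 4, 7, 3, 4, 5, 10, 9, 8, 7, 4, 3, 2, 3, 4, 7, 8, 9, 10, 5, 4, 3, 7, 4, 8, 7, 9, 5, 4, 3, 5, 8, 7, 4, 3, 2, 1, 2, 3, 4, 7, 8, 5, 5, 9, 8, 7, 4, 7, 8, 9, 5, 3, 4, 5, 7, 8, 4, 7, 3, 4, 5, 10, 9, 8, 7, 4, 3, 2, 1, 2, 3, 4, 7, 8, 9, 10, 5, 4, 3, 7, 4, 8, 7, 5, 4, 3, 5, 7, 4, 3, 2, 1, 2, 3,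 4, 7, 5]

/-- The image of `b`. -/
def wordB : List Nat := [5, 7, 8, 3, 4, 7, 2, 3, 4, 5, 9, 10, 8, 9, 7, 8, 4, 7, 3, 4, 5, 1, 5, 4, 3, 7, 4, 8, 7, 9, 8, 10, 9, 5, 4, 3, 7, 4, 8, 7, 5, 4, 3, 2, 1, 2, 3, 4, 5, 7, 8, 4, 7, 3, 4, 5, 9, 10, 8, 9, 7, 8, 4, 7, 3, 4, 5, 1, 5, 4, 3, 7, 4, 8, 7, 9, 8, 10, 9, 5, 4, 3, 2, 7, 4, 3, 8, 7, 5, 9, 7, 8, 4, 7, 3, 4, 5, 6, 10, 9, 8, 7, 3, 7, 4, 8, 7, 9, 8, 10, 9, 5, 4, 3, 7, 4, 8, 7, 5, 4, 3, 2, 1, 2, 3, 4, 5, 7, 8, 4, 7, 3, 4, 5, 9, 10, 8, 9, 7, 8, 4, 7, 3, 7, 8, 9, 10, 6, 5, 4, 3, 7, 4, 8, 7, 9, 5, 9, 7, 8, 4, 7, 3, 4, 5, 6, 10, 9, 8, 7, 3, 7, 4, 8, 7, 9, 8, 10, 9, 5, 4, 3, 7, 4, 8,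 7, 5, 4, 3, 2, 1, 2, 3, 4, 5, 7, 8, 4, 7, 3, 4, 5, 9, 10, 8, 9, 7, 8, 4, 7, 3, 7, 8, 9, 10, 6, 5, 4, 3, 7, 4, 8, 7, 9, 5, 9, 8, 7, 4, 5, 6, 10, 9, 8, 7, 3, 7, 4, 8, 7, 9, 8, 10, 9, 5, 4, 3, 7, 4, 8, 7, 5, 4, 3, 2, 1, 2, 3, 4, 5, 7, 8, 4, 7, 3, 4, 5, 9, 10, 8, 9, 7, 8, 4, 7, 3, 7, 8, 9, 10, 6, 5, 4, 7, 8, 9, 4, 5, 6, 9, 10, 8, 9, 7, 8, 4, 7, 3, 4, 5, 1, 5, 4, 3, 7, 4, 8, 7, 9, 8, 10, 9, 5, 4, 3, 7, 4, 8, 7, 5, 4, 3, 2, 1, 2, 3, 4, 5, 7, 8, 4, 7, 3, 4, 5, 9, 10, 8, 9, 7, 8, 4, 7, 3, 4, 5, 1, 5, 4, 3, 7, 4, 8, 7, 9, 8, 10, 9, 6, 5, 4, 9, 8, 7, 3, 4, 5, 6, 10, 9, 8, 7, 4, 5, 1, 5, 4, 3, 7, 4, 8, 7, 9, 8, 10, 9, 5, 4, 3,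 7, 4, 8, 7, 5, 4, 3, 2, 1, 2, 3, 4, 5, 7, 8, 4, 7, 3, 4, 5, 9, 10, 8, 9, 7, 8, 4, 7, 3, 4, 5, 1, 5, 4, 7, 8, 9, 10, 6, 5, 4, 3, 7, 8, 9, 1, 5, 9, 7, 8, 4, 7, 3, 4, 5, 6, 10, 9, 8, 7, 3, 7, 4, 8, 7, 9, 8, 10, 9, 5, 4, 3, 7, 4, 8, 7, 5, 4, 3, 2, 1, 2, 3, 4, 5, 7, 8, 4, 7, 3, 4, 5, 9, 10, 8, 9, 7, 8, 4, 7, 3, 7, 8, 9, 10, 6, 5, 4, 3, 7, 4, 8, 7, 9, 5, 9, 7, 8, 4, 7, 3, 4, 5, 6, 10, 9, 8, 7, 3, 7, 4, 8, 7, 9, 8, 10, 9, 5, 4, 3, 7, 4, 8, 7, 5, 4, 3, 2, 1, 2, 3, 4, 5, 7, 8, 4, 7, 3, 4, 5, 9, 10, 8, 9, 7, 8, 4, 7, 3, 7, 8, 9, 10, 6, 5, 4, 3, 7, 4, 8, 7, 10, 8, 9, 7, 8, 4, 7, 2, 7, 4, 8, 7, 9, 8, 10, 9, 5, 4, 3, 7, 4, 8, 7,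 5, 4, 3, 2, 1, 2, 3, 4, 5, 7, 8, 4, 7, 3, 4, 5, 9, 10, 8, 9, 7, 8, 4, 7, 2, 7, 4, 8, 7, 9, 8, 10, 9, 5, 7, 8, 4, 7, 2, 3, 4, 5, 9, 10, 8, 9, 7, 8, 4, 7, 3, 4, 5, 1, 5, 4, 3, 7, 4, 8, 7, 9, 8, 10, 9, 5, 4, 3, 7, 4, 8, 7, 5, 4, 3, 2, 1, 2, 3, 4, 5, 7, 8, 4, 7, 3, 4, 5, 9, 10, 8, 9, 7, 8, 4, 7, 3, 4, 5, 1, 5, 4, 3, 7, 4, 8, 7, 9, 8, 10, 9, 5, 4, 3, 2, 7, 4, 8, 7, 5, 4, 5, 8, 3, 4, 7, 2, 3, 4, 5, 9, 10, 8, 9, 7, 8, 4, 7, 3, 4, 5, 1, 5, 4, 3, 7, 4, 8, 7, 9, 8, 10, 9, 5, 4, 3, 7, 4, 8, 7, 5, 4, 3, 2, 1, 2, 3, 4, 5, 7, 8, 4, 7, 3, 4, 5, 9, 10, 8, 9, 7, 8, 4, 7, 3, 4, 5, 1, 5, 4, 3, 7, 4, 8, 7, 9, 8, 10, 9, 5, 4, 3, 2, 7, 4,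 3, 8, 5, 4, 5, 9, 7, 8, 4, 7, 3, 4, 5, 6, 10, 9, 8, 7, 3, 7, 4, 8, 7, 9, 8, 10, 9, 5, 4, 3, 7, 4, 8, 7, 5, 4, 3, 2, 1, 2, 3, 4, 5, 7, 8, 4, 7, 3, 4, 5, 9, 10, 8, 9, 7, 8, 4, 7, 3, 7, 8, 9, 10, 6, 5, 4, 3, 7, 4, 8, 7, 9, 5, 9, 8, 7, 4, 5, 6, 10, 9, 8, 7, 3, 7, 4, 8, 7, 9, 8, 10, 9, 5, 4, 3, 7, 4, 8, 7, 5, 4, 3, 2, 1, 2, 3, 4, 5, 7, 8, 4, 7, 3, 4, 5, 9, 10, 8, 9, 7, 8, 4, 7, 3, 7, 8, 9, 10, 6, 5, 4, 7, 8, 9, 4, 5, 6, 9, 10, 8, 9, 7, 8, 4, 7, 3, 4, 5, 1, 5, 4, 3, 7, 4, 8, 7, 9, 8, 10, 9, 5, 4, 3, 7, 4, 8, 7, 5, 4, 3, 2, 1, 2, 3, 4, 5, 7, 8, 4, 7, 3, 4, 5, 9, 10, 8, 9, 7, 8, 4, 7, 3, 4, 5, 1, 5, 4, 3, 7, 4, 8, 7, 9, 8, 10,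 9, 6, 5, 4, 5, 9, 10, 8, 9, 7, 8, 3, 4, 7, 2, 7, 4, 8, 7, 9, 8, 10, 9, 5, 4, 3, 7, 4, 8, 7, 5, 4, 3, 2, 1, 2, 3, 4, 5, 7, 8, 4, 7, 3, 4, 5, 9, 10, 8, 9, 7, 8, 4, 7, 2, 7, 4, 3, 8, 7, 9, 8, 10, 9, 5, 4, 5, 8, 3, 4, 7, 2, 3, 4, 5, 9, 10, 8, 9, 7, 8, 4, 7, 3, 4, 5, 1, 5, 4, 3, 7, 4, 8, 7, 9, 8, 10, 9, 5, 4, 3, 7, 4, 8, 7, 5, 4, 3, 2, 1, 2, 3, 4, 5, 7, 8, 4, 7, 3, 4, 5, 9, 10, 8, 9, 7, 8, 4, 7, 3, 4, 5, 1, 5, 4, 3, 7, 4, 8, 7, 9, 8, 10, 9, 5, 4, 3, 2, 7, 4, 3, 8, 5, 4, 5, 7, 8, 4, 7, 2, 3, 4, 5, 9, 10, 8, 9, 7, 8, 4, 7, 3, 4, 5, 1, 5, 4, 3, 7, 4, 8, 7, 9, 8, 10, 9, 5, 4, 3, 7, 4, 8, 7, 5, 4, 3, 2, 1, 2, 3, 4, 5, 7, 8, 4,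 7, 3, 4, 5, 9, 10, 8, 9, 7, 8, 4, 7, 3, 4, 5, 1, 5, 4, 3, 7, 4, 8, 7, 9, 8, 10, 9, 5, 4, 3, 2, 7, 4, 8, 7, 5, 9, 8, 4, 7, 2, 3, 4, 5, 6, 4, 5, 10, 9, 8, 3, 4, 7, 2, 7, 4, 8, 7, 9, 8, 10, 9, 5, 4, 3, 7, 4, 8, 7, 5, 4, 3, 2, 1, 2, 3, 4, 5, 7, 8, 4, 7, 3, 4, 5, 9, 10, 8, 9, 7, 8, 4, 7, 2, 7, 4, 3, 8, 9, 10, 5, 4, 6, 5, 4, 3, 2, 7, 4, 8, 9, 4, 7, 3, 4, 5, 6, 10, 9, 7, 8, 4, 7, 3, 4, 5, 1, 5, 4, 3, 7, 4, 8, 7, 9, 8, 10, 9, 5, 4, 3, 7, 4, 8, 7, 5, 4, 3, 2, 1, 2, 3, 4, 5, 7, 8, 4, 7, 3, 4, 5, 9, 10, 8, 9, 7, 8, 4, 7, 3, 4, 5, 1, 5, 4, 3, 7, 4, 8, 7, 9, 10, 6, 5, 4, 3, 7, 4, 8, 4, 7, 2, 3, 4, 5, 6, 4, 5, 10, 9, 8, 3, 4, 7, 2,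 7, 4, 8, 7, 9, 8, 10, 9, 5, 4, 3, 7, 4, 8, 7, 5, 4, 3, 2, 1, 2, 3, 4, 5, 7, 8, 4, 7, 3, 4, 5, 9, 10, 8, 9, 7, 8, 4, 7, 2, 7, 4, 3, 8, 9, 10, 5, 4, 6, 5, 4, 3, 2, 7, 4, 8, 5, 9, 8, 3, 4, 7, 2, 3, 4, 5, 6, 5, 10, 9, 8, 3, 4, 7, 2, 7, 4, 8, 7, 9, 8, 10, 9, 5, 4, 3, 7, 4, 8, 7, 5, 4, 3, 2, 1, 2, 3, 4, 5, 7, 8, 4, 7, 3, 4, 5, 9, 10, 8, 9, 7, 8, 4, 7, 2, 7, 4, 3, 8, 9, 10, 5, 6, 5, 4, 3, 2, 7, 4, 3, 8, 9, 5, 4, 5, 9, 8, 3, 4, 7, 2, 3, 4, 5, 6, 5, 10, 9, 8, 3, 4, 7, 2, 7, 4, 8, 7, 9, 8, 10, 9, 5, 4, 3, 7, 4, 8, 7, 5, 4, 3, 2, 1, 2, 3, 4, 5, 7, 8, 4, 7, 3, 4, 5, 9, 10, 8, 9, 7, 8, 4, 7, 2, 7, 4, 3, 8, 9, 10, 5, 6, 5, 4, 3, 2,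 7, 4, 3, 8, 9, 5, 4, 7, 4, 5, 6, 3, 4, 5, 7, 8, 4, 7, 2, 3, 4, 5, 6, 5, 10, 9, 8, 4, 7, 2, 7, 4, 8, 7, 9, 8, 10, 9, 5, 4, 3, 7, 4, 8, 7, 5, 4, 3, 2, 1, 2, 3, 4, 5, 7, 8, 4, 7, 3, 4, 5, 9, 10, 8, 9, 7, 8, 4, 7, 2, 7, 4, 8, 9, 10, 5, 6, 5, 4, 3, 2, 7, 4, 8, 7, 5, 4, 3, 6, 5, 4, 7, 3, 4, 5, 6, 2, 3, 4, 5, 7, 8, 4, 7, 1, 2, 3, 4, 5, 6, 10, 9, 8, 3, 4, 7, 2, 7, 4, 8, 7, 9, 8, 10, 9, 5, 4, 3, 7, 4, 8, 7, 5, 4, 3, 2, 1, 2, 3, 4, 5, 7, 8, 4, 7, 3, 4, 5, 9, 10, 8, 9, 7, 8, 4, 7, 2, 7, 4, 3, 8, 9, 10, 6, 5, 4, 3, 2, 1, 7, 4, 8, 7, 5, 4, 3, 2, 6, 5, 4, 3, 5, 2, 3, 4, 7, 1, 2, 3, 4, 5, 6, 10, 9, 7, 8, 3, 4, 7, 2, 7, 4, 8, 7, 9,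 8, 10, 9, 5, 4, 3, 7, 4, 8, 7, 5, 4, 3, 2, 1, 2, 3, 4, 5, 7, 8, 4, 7, 3, 4, 5, 9, 10, 8, 9, 7, 8, 4, 7, 2, 7, 4, 3, 8, 7, 9, 10, 6, 5, 4, 3, 2, 1, 7, 4, 3, 2, 5, 3, 4, 5, 6, 2, 3, 4, 5, 7, 8, 4, 7, 1, 2, 3, 4, 5, 6, 10, 9, 8, 3, 4, 7, 2, 7, 4, 8, 7, 9, 8, 10, 9, 5, 4, 3, 7, 4, 8, 7, 5, 4, 3, 2, 1, 2, 3, 4, 5, 7, 8, 4, 7, 3, 4, 5, 9, 10, 8, 9, 7, 8, 4, 7, 2, 7, 4, 3, 8, 9, 10, 6, 5, 4, 3, 2, 1, 7, 4, 8, 7, 5, 4, 3, 2, 6, 5, 4, 3, 2, 3, 4, 5, 9, 7, 8, 4, 7, 1, 2, 3, 4, 5, 6, 8, 4, 7, 2, 7, 4, 8, 7, 9, 8, 10, 9, 5, 4, 3, 7, 4, 8, 7, 5, 4, 3, 2, 1, 2, 3, 4, 5, 7, 8, 4, 7, 3, 4, 5, 9, 10, 8, 9, 7, 8, 4, 7, 2, 7, 4, 8, 6,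 5, 4, 3, 2, 1, 7, 4, 8, 7, 9, 5, 4, 3, 2, 3, 4, 5, 6, 9, 8, 7, 4, 5, 8, 9, 4, 7, 8, 3, 4, 7, 2, 3, 4, 5, 6, 7, 8, 3, 4, 7, 2, 7, 4, 8, 7, 9, 8, 10, 9, 5, 4, 3, 7, 4, 8, 7, 5, 4, 3, 2, 1, 2, 3, 4, 5, 7, 8, 4, 7, 3, 4, 5, 9, 10, 8, 9, 7, 8, 4, 7, 2, 7, 4, 3, 8, 7, 6, 5, 4, 3, 2, 7, 4, 3, 8, 7, 4, 9, 8, 5, 4, 7, 8, 9, 6, 5, 4, 3, 6, 7, 2, 3, 4, 5, 8, 9, 4, 7, 8, 3, 4, 7, 2, 3, 4, 5, 6, 8, 3, 4, 7, 2, 7, 4, 8, 7, 9, 8, 10, 9, 5, 4, 3, 7, 4, 8, 7, 5, 4, 3, 2, 1, 2, 3, 4, 5, 7, 8, 4, 7, 3, 4, 5, 9, 10, 8, 9, 7, 8, 4, 7, 2, 7, 4, 3, 8, 6, 5, 4, 3, 2, 7, 4, 3, 8, 7, 4, 9, 8, 5, 4, 3, 2, 7, 6, 1, 2, 3, 4, 5, 6, 7, 1, 2, 3, 4,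 5, 10, 8, 9, 7, 8, 3, 4, 7, 2, 3, 4, 5, 6, 7, 8, 3, 4, 7, 2, 7, 4, 8, 7, 9, 8, 10, 9, 5, 4, 3, 7, 4, 8, 7, 5, 4, 3, 2, 1, 2, 3, 4, 5, 7, 8, 4, 7, 3, 4, 5, 9, 10, 8, 9, 7, 8, 4, 7, 2, 7, 4, 3, 8, 7, 6, 5, 4, 3, 2, 7, 4, 3, 8, 7, 9, 8, 10, 5, 4, 3, 2, 1, 7, 6, 5, 4, 3, 2, 1, 6, 7, 4, 8, 7, 5, 4, 3, 2, 1, 2, 3, 4, 5, 7, 8, 4, 7, 6, 11, 0, 11, 1, 2, 3, 4, 7, 8, 9, 10, 5, 4, 3, 2, 7, 4, 3, 8, 7, 9, 6, 5, 4, 3, 7, 4, 8, 7, 9, 5, 4, 3, 2, 1, 0]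

/-- The image of `c`. -/
def wordC : List Nat := [3, 2, 1, 2, 3, 8, 7, 4, 3, 2, 3, 4, 7, 8, 7, 3, 4, 5, 9, 8, 7, 4, 3, 2, 3, 4, 7, 8, 9, 5, 4, 3, 7, 7, 8, 4, 7, 3, 4, 5, 9, 8, 7, 4, 3, 2, 1, 2, 3, 4, 7, 8, 9, 5, 4, 3, 7, 4, 8, 7, 7, 8, 3, 4, 7, 2, 3, 4, 5, 10, 9, 8, 7, 4, 3, 2, 1, 2, 3, 4, 7, 8, 9, 10, 5, 4, 3, 2, 7, 4, 3, 8, 7, 7, 8, 3, 4, 7, 2, 3, 4, 5, 10, 9, 8, 7, 4, 3, 2, 1, 2, 3, 4, 7, 8, 9, 10, 5, 4, 3, 2, 7, 4, 3, 8, 7, 5, 3, 4, 7, 2, 3, 4, 5, 8, 7, 4, 3, 2, 1, 2, 3, 4, 7, 8, 5, 4, 3, 2, 7, 4, 3, 5, 5, 3, 4, 7, 2, 3, 4, 5, 8, 7, 4, 3, 2, 1, 2, 3, 4, 7, 8, 5, 4, 3, 2, 7, 4, 3, 5, 2, 3, 4, 5, 9, 7, 8, 4, 7, 3,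 4, 5, 10, 9, 8, 7, 4, 3, 2, 3, 4, 7, 8, 9, 10, 5, 4, 3, 7, 4, 8, 7, 9, 5, 4, 3, 2, 2, 3, 4, 5, 9, 7, 8, 4, 7, 3, 4, 5, 10, 9, 8, 7, 4, 3, 2, 3, 4, 7, 8, 9, 10, 5, 4, 3, 7, 4, 8, 7, 9, 5, 4, 3, 2, 8, 7, 3, 4, 5, 9, 8, 7, 4, 3, 2, 1, 2, 3, 4, 7, 8, 9, 5, 4, 3, 7, 8, 7, 4, 3, 2, 1, 2, 3, 4, 7, 4, 5, 10, 9, 8, 7, 4, 3, 4, 7, 8, 9, 10, 5, 4, 4, 5, 10, 9, 8, 7, 4, 3, 4, 7, 8, 9, 10, 5, 4, 9, 8, 7, 4, 7, 8, 9, 9, 8, 7, 4, 7, 8, 9, 7, 2, 3, 4, 5, 9, 8, 7, 4, 3, 2, 1, 2, 3, 4, 7, 8, 9, 5, 4, 3, 2, 7, 7, 2, 3, 4, 5, 9, 8, 7, 4, 3, 2, 1, 2, 3, 4, 7, 8, 9, 5, 4, 3, 2, 7, 8, 9, 7, 8, 4, 7, 3, 4, 5, 10, 9, 8, 7, 4, 3, 2, 3, 4, 7,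 8, 9, 10, 5, 4, 3, 7, 4, 8, 7, 9, 8, 7, 3, 4, 5, 8, 9, 7, 8, 4, 7, 3, 4, 5, 10, 9, 8, 7, 4, 3, 2, 1, 2, 3, 4, 7, 8, 9, 10, 5, 4, 3, 7, 4, 8, 7, 9, 8, 5, 4, 3, 7, 5, 9, 8, 7, 4, 7, 8, 9, 5, 5, 7, 4, 3, 2, 1, 2, 3, 4, 7, 5]

/-- The image of `d`. -/
def wordD : List Nat := [3, 4, 5, 7, 8, 4, 7, 3, 4, 5, 9, 8, 7, 4, 3, 2, 3, 4, 7, 8, 9, 5, 4, 3, 7, 4, 8, 7, 5, 4, 3, 3, 4, 5, 8, 9, 7, 8, 4, 7, 3, 4, 5, 10, 9, 8, 7, 4, 3, 2, 1, 2, 3, 4, 7, 8, 9, 10, 5, 4, 3, 7, 4, 8, 7, 9, 8, 5, 4, 3, 5, 7, 4, 3, 2, 3, 4, 7, 5, 5, 9, 8, 7, 4, 7, 8, 9, 5]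

/-- The image of `e`. -/
def wordE : List Nat := [5, 4, 7, 3, 4, 5, 8, 9, 7, 8, 4, 7, 3, 4, 5, 10, 9, 8, 7, 4, 3, 2, 1, 2, 3, 4, 7, 8, 9, 10, 5, 4, 3, 7, 4, 8, 7, 9, 8, 5, 4, 3, 7, 4, 5, 9, 8, 3, 4, 7, 2, 3, 4, 5, 10, 9, 8, 7, 4, 3, 2, 1, 2, 3, 4, 7, 8, 9, 10, 5, 4, 3, 2, 7, 4, 3, 8, 9, 8, 4, 7, 2, 3, 4, 5, 9, 8, 7, 4, 3, 2, 1, 2, 3, 4, 7, 8, 9, 5, 4, 3, 2, 7, 4, 8, 4, 5, 7, 8, 4, 7, 3, 4, 5, 9, 8, 7, 4, 3, 2, 3, 4, 7, 8, 9, 5, 4, 3, 7, 4, 8, 7, 5, 4]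

/-- The image of `f`. -/
def wordF : List Nat := [10, 9, 8, 7, 4, 3, 2, 3, 4, 7, 8, 9, 10, 7, 2, 3, 4, 5, 8, 7, 4, 3, 2, 1, 2, 3, 4, 7, 8, 5, 4, 3, 2, 7, 7, 3, 4, 5, 9, 8, 7, 4, 3, 2, 3, 4, 7, 8, 9, 5, 4, 3, 7, 9, 8, 7, 4, 5, 10, 9, 8, 7, 4, 3, 4, 7, 8, 9, 10, 5, 4, 7, 8, 9]

/-- The image of `g`. -/
def wordG : List Nat := [5, 7, 8, 3, 4, 7, 2, 3, 4, 5, 9, 10, 8, 9, 7, 8, 4, 7, 3, 4, 5, 1, 5, 4, 3, 7, 4, 8, 7, 9, 8, 10, 9, 5, 4, 3, 7, 4, 8, 7, 5, 4, 3, 2, 1, 2, 3, 4, 5, 7, 8, 4, 7, 3, 4, 5, 9, 10, 8, 9, 7, 8, 4, 7, 3, 4, 5, 1, 5, 4, 3, 7, 4, 8, 7, 9, 8, 10, 9, 5, 4, 3, 2, 7, 4, 3, 8, 7, 5, 9, 10, 8, 9, 7, 8, 4, 7,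 2, 7, 4, 8, 7, 9, 8, 10, 9, 5, 4, 3, 7, 4, 8, 7, 5, 4, 3, 2, 1, 2, 3, 4, 5, 7, 8, 4, 7, 3, 4, 5, 9, 10, 8, 9, 7, 8, 4, 7, 2, 7, 4, 8, 7, 9, 8, 10, 9, 9, 8, 4, 7, 3, 4, 5, 6, 10, 9, 8, 7, 3, 7, 4, 8, 7, 9, 8, 10, 9, 5, 4, 3, 7, 4, 8, 7, 5, 4, 3, 2, 1, 2, 3, 4, 5, 7, 8, 4, 7, 3, 4, 5, 9, 10, 8, 9, 7, 8, 4, 7, 3, 7, 8, 9, 10, 6, 5, 4, 3, 7, 4, 7, 4, 5, 6, 10, 9, 8, 7, 3, 7, 4, 8, 7, 9, 8, 10, 9, 5, 4, 3, 7, 4, 8, 7, 5, 4, 3, 2, 1, 2, 3, 4, 5, 7, 8, 4, 7, 3, 4, 5, 9, 10, 8, 9, 7, 8, 4, 7, 3, 7, 8, 9, 10, 6, 5, 4, 7, 8, 9, 1, 4, 5, 6, 9, 10, 8, 9, 7, 8, 4, 7, 3, 4, 5, 1, 5, 4, 3, 7, 4, 8, 7, 9, 8, 10, 9, 5, 4, 3, 7, 4, 8,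 7, 5, 4, 3, 2, 1, 2, 3, 4, 5, 7, 8, 4, 7, 3, 4, 5, 9, 10, 8, 9, 7, 8, 4, 7, 3, 4, 5, 1, 5, 4, 3, 7, 4, 8, 7, 9, 8, 10, 9, 6, 9, 10, 8, 9, 7, 8, 4, 7, 2, 7, 4, 8, 7, 9, 8, 10, 9, 5, 4, 3, 7, 4, 8, 7, 5, 4, 3, 2, 1, 2, 3, 4, 5, 7, 8, 4, 7, 3, 4, 5, 9, 10, 8, 9, 7, 8, 4, 7, 2, 7, 4, 8, 7, 9, 8, 10, 9, 6, 9, 10, 8, 9, 7, 8, 4, 7, 3, 4, 5, 1, 5, 4, 3, 7, 4, 8, 7, 9, 8, 10, 9, 5, 4, 3, 7, 4, 8, 7, 5, 4, 3, 2, 1, 2, 3, 4, 5, 7, 8, 4, 7, 3, 4, 5, 9, 10, 8, 9, 7, 8, 4, 7, 3, 4, 5, 1, 5, 4, 3, 7, 4, 8, 7, 9, 8, 10, 9, 6, 5, 4, 5, 7, 8, 4, 7, 2, 3, 4, 5, 9, 10, 8, 9, 7, 8, 4, 7, 3, 4, 5, 1, 5, 4, 3, 7, 4, 8, 7, 9, 8, 10, 9, 5,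 4, 3, 7, 4, 8, 7, 5, 4, 3, 2, 1, 2, 3, 4, 5, 7, 8, 4, 7, 3, 4, 5, 9, 10, 8, 9, 7, 8, 4, 7, 3, 4, 5, 1, 5, 4, 3, 7, 4, 8, 7, 9, 8, 10, 9, 5, 4, 3, 2, 7, 4, 8, 7, 5, 7, 3, 4, 5, 6, 9, 10, 8, 9, 7, 8, 4, 7, 3, 4, 5, 1, 5, 4, 3, 7, 4, 8, 7, 9, 8, 10, 9, 5, 4, 3, 7, 4, 8, 7, 5, 4, 3, 2, 1, 2, 3, 4, 5, 7, 8, 4, 7, 3, 4, 5, 9, 10, 8, 9, 7, 8, 4, 7, 3, 4, 5, 1, 5, 4, 3, 7, 4, 8, 7, 9, 8, 10, 9, 6, 5, 4, 3, 7, 4, 5, 8, 3, 4, 7, 2, 3, 4, 5, 9, 10, 8, 9, 7, 8, 4, 7, 3, 4, 5, 1, 5, 4, 3, 7, 4, 8, 7, 9, 8, 10, 9, 5, 4, 3, 7, 4, 8, 7, 5, 4, 3, 2, 1, 2, 3, 4, 5, 7, 8, 4, 7, 3, 4, 5, 9, 10, 8, 9, 7, 8, 4, 7, 3, 4, 5, 1, 5, 4, 3, 7,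 4, 8, 7, 9, 8, 10, 9, 5, 4, 3, 2, 7, 4, 3, 8, 5, 4, 7, 3, 4, 5, 6, 9, 10, 8, 9, 7, 8, 4, 7, 3, 4, 5, 1, 5, 4, 3, 7, 4, 8, 7, 9, 8, 10, 9, 5, 4, 3, 7, 4, 8, 7, 5, 4, 3, 2, 1, 2, 3, 4, 5, 7, 8, 4, 7, 3, 4, 5, 9, 10, 8, 9, 7, 8, 4, 7, 3, 4, 5, 1, 5, 4, 3, 7, 4, 8, 7, 9, 8, 10, 9, 6, 5, 4, 3, 7, 1, 9, 7, 8, 4, 7, 3, 4, 5, 6, 10, 9, 8, 7, 3, 7, 4, 8, 7, 9, 8, 10, 9, 5, 4, 3, 7, 4, 8, 7, 5, 4, 3, 2, 1, 2, 3, 4, 5, 7, 8, 4, 7, 3, 4, 5, 9, 10, 8, 9, 7, 8, 4, 7, 3, 7, 8, 9, 10, 6, 5, 4, 3, 7, 4, 8, 7, 9, 7, 3, 4, 5, 6, 9, 10, 8, 9, 7, 8, 4, 7, 3, 4, 5, 1, 5, 4, 3, 7, 4, 8, 7, 9, 8, 10, 9, 5, 4, 3, 7, 4, 8, 7, 5, 4, 3, 2, 1, 2,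 3, 4, 5, 7, 8, 4, 7, 3, 4, 5, 9, 10, 8, 9, 7, 8, 4, 7, 3, 4, 5, 1, 5, 4, 3, 7, 4, 8, 7, 9, 8, 10, 9, 6, 5, 4, 3, 7, 9, 8, 7, 3, 4, 5, 6, 10, 9, 8, 7, 4, 5, 1, 5, 4, 3, 7, 4, 8, 7, 9, 8, 10, 9, 5, 4, 3, 7, 4, 8, 7, 5, 4, 3, 2, 1, 2, 3, 4, 5, 7, 8, 4, 7, 3, 4, 5, 9, 10, 8, 9, 7, 8, 4, 7, 3, 4, 5, 1, 5, 4, 7, 8, 9, 10, 6, 5, 4, 3, 7, 8, 9, 1, 9, 8, 4, 7, 1, 2, 3, 4, 5, 6, 5, 10, 9, 8, 3, 4, 7, 2, 7, 4, 8, 7, 9, 8, 10, 9, 5, 4, 3, 7, 4, 8, 7, 5, 4, 3, 2, 1, 2, 3, 4, 5, 7, 8, 4, 7, 3, 4, 5, 9, 10, 8, 9, 7, 8, 4, 7, 2, 7, 4, 3, 8, 9, 10, 5, 6, 5, 4, 3, 2, 1, 7, 4, 8, 9, 8, 4, 7, 3, 4, 5, 6, 10, 9, 8, 4, 7, 3, 4, 5, 1, 5, 4,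 3, 7, 4, 8, 7, 9, 8, 10, 9, 5, 4, 3, 7, 4, 8, 7, 5, 4, 3, 2, 1, 2, 3, 4, 5, 7, 8, 4, 7, 3, 4, 5, 9, 10, 8, 9, 7, 8, 4, 7, 3, 4, 5, 1, 5, 4, 3, 7, 4, 8, 9, 10, 6, 5, 4, 3, 7, 4, 8, 8, 4, 7, 2, 3, 4, 5, 6, 4, 5, 10, 9, 8, 3, 4, 7, 2, 7, 4, 8, 7, 9, 8, 10, 9, 5, 4, 3, 7, 4, 8, 7, 5, 4, 3, 2, 1, 2, 3, 4, 5, 7, 8, 4, 7, 3, 4, 5, 9, 10, 8, 9, 7, 8, 4, 7, 2, 7, 4, 3, 8, 9, 10, 5, 4, 6, 5, 4, 3, 2, 7, 4, 8, 9, 8, 4, 7, 2, 3, 4, 5, 6, 4, 5, 10, 9, 8, 3, 4, 7, 2, 7, 4, 8, 7, 9, 8, 10, 9, 5, 4, 3, 7, 4, 8, 7, 5, 4, 3, 2, 1, 2, 3, 4, 5, 7, 8, 4, 7, 3, 4, 5, 9, 10, 8, 9, 7, 8, 4, 7, 2, 7, 4, 3, 8, 9, 10, 5, 4, 6, 5, 4, 3, 2, 7, 4,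 8, 9, 4, 5, 9, 8, 3, 4, 7, 2, 3, 4, 5, 6, 5, 10, 9, 8, 3, 4, 7, 2, 7, 4, 8, 7, 9, 8, 10, 9, 5, 4, 3, 7, 4, 8, 7, 5, 4, 3, 2, 1, 2, 3, 4, 5, 7, 8, 4, 7, 3, 4, 5, 9, 10, 8, 9, 7, 8, 4, 7, 2, 7, 4, 3, 8, 9, 10, 5, 6, 5, 4, 3, 2, 7, 4, 3, 8, 9, 5, 4, 4, 5, 9, 7, 8, 3, 4, 7, 1, 2, 3, 4, 5, 6, 5, 10, 9, 8, 3, 4, 7, 2, 7, 4, 8, 7, 9, 8, 10, 9, 5, 4, 3, 7, 4, 8, 7, 5, 4, 3, 2, 1, 2, 3, 4, 5, 7, 8, 4, 7, 3, 4, 5, 9, 10, 8, 9, 7, 8, 4, 7, 2, 7, 4, 3, 8, 9, 10, 5, 6, 5, 4, 3, 2, 1, 7, 4, 3, 8, 7, 9, 5, 4, 7, 4, 5, 6, 3, 4, 5, 7, 8, 4, 7, 2, 3, 4, 5, 6, 5, 10, 9, 8, 4, 7, 2, 7, 4, 8, 7, 9, 8, 10, 9, 5, 4, 3, 7, 4, 8, 7, 5, 4, 3,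 2, 1, 2, 3, 4, 5, 7, 8, 4, 7, 3, 4, 5, 9, 10, 8, 9, 7, 8, 4, 7, 2, 7, 4, 8, 9, 10, 5, 6, 5, 4, 3, 2, 7, 4, 8, 7, 5, 4, 3, 6, 5, 4, 7, 8, 4, 7, 2, 3, 4, 5, 6, 10, 9, 7, 9, 8, 10, 9, 5, 4, 3, 7, 4, 8, 7, 5, 4, 3, 2, 1, 2, 3, 4, 5, 7, 8, 4, 7, 3, 4, 5, 9, 10, 8, 9, 7, 9, 10, 6, 5, 4, 3, 2, 7, 4, 8, 7, 8, 4, 7, 2, 3, 4, 5, 6, 10, 8, 10, 9, 5, 4, 3, 7, 4, 8, 7, 5, 4, 3, 2, 1, 2, 3, 4, 5, 7, 8, 4, 7, 3, 4, 5, 9, 10, 8, 10, 6, 5, 4, 3, 2, 7, 4, 8, 7, 3, 4, 5, 6, 9, 8, 7, 4, 5, 8, 9, 4, 7, 8, 3, 4, 7, 2, 3, 4, 5, 6, 7, 8, 3, 4, 7, 2, 7, 4, 8, 7, 9, 8, 10, 9, 5, 4, 3, 7, 4, 8, 7, 5, 4, 3, 2, 1, 2, 3, 4, 5, 7, 8, 4, 7, 3, 4, 5,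 9, 10, 8, 9, 7, 8, 4, 7, 2, 7, 4, 3, 8, 7, 6, 5, 4, 3, 2, 7, 4, 3, 8, 7, 4, 9, 8, 5, 4, 7, 8, 9, 6, 5, 4, 3, 8, 7, 4, 5, 6, 10, 8, 9, 4, 7, 8, 3, 4, 7, 2, 7, 4, 8, 7, 9, 8, 10, 9, 5, 4, 3, 7, 4, 8, 7, 5, 4, 3, 2, 1, 2, 3, 4, 5, 7, 8, 4, 7, 3, 4, 5, 9, 10, 8, 9, 7, 8, 4, 7, 2, 7, 4, 3, 8, 7, 4, 9, 8, 10, 6, 5, 4, 7, 8, 5, 6, 1, 2, 3, 4, 5, 10, 9, 7, 8, 4, 7, 1, 2, 3, 4, 5, 6, 7, 8, 4, 7, 2, 7, 4, 8, 7, 9, 8, 10, 9, 5, 4, 3, 7, 4, 8, 7, 5, 4, 3, 2, 1, 2, 3, 4, 5, 7, 8, 4, 7, 3, 4, 5, 9, 10, 8, 9, 7, 8, 4, 7, 2, 7, 4, 8, 7, 6, 5, 4, 3, 2, 1, 7, 4, 8, 7, 9, 10, 5, 4, 3, 2, 1, 6, 5, 6, 9, 8, 7, 4, 5, 4, 7, 8, 3, 4, 7, 2,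 3, 4, 5, 6, 9, 7, 8, 3, 4, 7, 2, 7, 4, 8, 7, 9, 8, 10, 9, 5, 4, 3, 7, 4, 8, 7, 5, 4, 3, 2, 1, 2, 3, 4, 5, 7, 8, 4, 7, 3, 4, 5, 9, 10, 8, 9, 7, 8, 4, 7, 2, 7, 4, 3, 8, 7, 9, 6, 5, 4, 3, 2, 7, 4, 3, 8, 7, 4, 5, 4, 7, 8, 9, 6, 11, 0, 11, 1, 0, 2, 3, 4, 7, 8, 9, 10, 5, 4, 3, 2, 7, 4, 8, 9, 6, 5, 4, 3, 2, 7, 4, 3, 8, 7, 9, 8, 5, 4, 3, 2, 1, 7, 4, 6]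

/-- A point fixed by the nodes `a, …, i`. -/
def pointZero : Nat := 88677

/-- Words of Fi23 from the base point to the base points of its levels, backwards. -/
def basePaths : List (List Nat) := [[], [7, 6, 5, 4, 3, 8, 2, 3, 4, 5, 6, 7], [7], [6, 5, 4, 1, 2, 3, 8, 9, 4, 2, 3, 8, 0, 1, 2, 3, 4, 5, 6, 7], [4, 2, 3, 8, 1, 2, 3, 4, 5, 6, 7]]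

end Cfsg.Agent.Fi24
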