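import Cfsg.Agent.Fi24.Transp
import Cfsg.Agent.Fi24.HeldData
import Cfsg.Agent.CosetCert.BaseFix
import Cfsg.Agent.CosetCert.HeOrder.Main

/-!
An even word fixing the base point and five more points is trivial; hence the words of
`HeldData` give a copy of the Held group inside the commutator subgroup of Fi24.
-/

set_option maxRecDepth 100000
set_option autoImplicit false

namespace Cfsg.Agent.Fi24

open Cfsg.Agent.CosetCert

/-- The node of a number of Fi23. -/
def node23 (x : Nat) : Nat := Fi24Index.enc (node (Fi23Index31671.dec x).1)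

/-- The word of `ξ` of a word. -/
def pairUp (r : List Nat) : List Nat := r.flatMap fun x => [node23 x, 11]

/-- An element of Fi23 given by a word. -/
noncomputable def el23 (r : List Nat) : Cfsg.Spor.Fi23 :=
  PresentedGroup.mk _ (FreeGroup.mk (r.map Fi23Index31671.dec))

theorem dec23_true (x : Nat) : Fi23Index31671.dec x = ((Fi23Index31671.dec x).1, true) := by
  unfold Fi23Index31671.dec
  split <;> rfl

theorem node23_lt (x : Nat) : node23 x < 12 := (Fi24Index.spells.enc_lt _).1

theorem pairUp_lt {r : List Nat} : ∀ x ∈ pairUp r, x < 12 := by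
  intro x hx
  simp only [pairUp, List.mem_flatMap, List.mem_cons, List.not_mem_nil, or_false] at hx
  obtain ⟨y, -, rfl | rfl⟩ := hx
  exacts [node23_lt y, by norm_num]

theorem el23_append (u v : List Nat) : el23 (u ++ v) = el23 u * el23 v := by
  rw [el23, el23, el23, List.map_append, ← map_mul, FreeGroup.mul_mk]

theorem el23_single (x : Nat) : el23 [x] = PresentedGroup.of (Fi23Index31671.dec x).1 := by
  rw [el23, List.map_cons, List.map_nil, dec23_true x]
  rfl

theorem ξ_el23 : ∀ r : List Nat, ξ (el23 r) = el (pairUp r) := by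
  intro r
  induction r with
  | nil => rw [el23, List.map_nil]; exact (map_one ξ).trans el_nil.symm
  | cons x t ih =>
    have e : el23 (x :: t) = PresentedGroup.of (Fi23Index31671.dec x).1 * el23 t := by
      rw [show x :: t = [x] ++ t from rfl, el23_append, el23_single]
    rw [e, map_mul, ξ_of, ih]
    rw [show pairUp (x :: t) = [node23 x] ++ [11] ++ pairUp t from rfl, el_append, el_append,
      el_single (node23_lt x), el_single (by norm_num)]
    rw [node23, (Fi24Index.spells.enc_lt _).2]
    rfl

theorem H_split {g : G} (hg : g ∈ H) : g ∈ ξ.range ∨ g * L ∈ ξ.range := by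
  refine H_induction (p := fun g => g ∈ H ∧ (g ∈ ξ.range ∨ g * L ∈ ξ.range)) (fun x hx => ?_)
    ⟨one_mem _, Or.inl (one_mem _)⟩ ?_ ?_ hg |>.2
  · refine ⟨gen_mem hx, ?_⟩
    by_cases hl : x = .l
    · subst hl; right; rw [gen_sq]; exact one_mem _
    · obtain ⟨y, rfl⟩ : ∃ y, node y = x := by
        cases x <;> first
          | exact absurd rfl hx | exact absurd rfl hl
          | exact ⟨.a, rfl⟩ | exact ⟨.b, rfl⟩ | exact ⟨.c, rfl⟩ | exact ⟨.d, rfl⟩
          | exact ⟨.e, rfl⟩ | exact ⟨.f, rfl⟩ | exact ⟨.g, rfl⟩ | exact ⟨.j, rfl⟩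
          | exact ⟨.h, rfl⟩ | exact ⟨.i, rfl⟩
      exact Or.inr ⟨_, ξ_of y⟩
  · rintro u v ⟨hu, hu'⟩ ⟨hv, hv'⟩
    refine ⟨mul_mem hu hv, ?_⟩
    rcases hu' with a | a <;> rcases hv' with b | b
    · exact Or.inl (mul_mem a b)
    · exact Or.inr (by rw [mul_assoc]; exact mul_mem a b)
    · refine Or.inr ?_
      rw [mul_assoc, L_comm hv, ← mul_assoc]
      exact mul_mem a b
    · refine Or.inl ?_
      have : u * v = u * L * (v * L) := by
        rw [mul_assoc u L, ← mul_assoc L v L, ← L_comm hv, mul_assoc v L L, gen_sq, mul_one]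
      rw [this]
      exact mul_mem a b
  · rintro u ⟨hu, hu'⟩
    refine ⟨inv_mem hu, hu'.imp inv_mem fun a => ?_⟩
    have h := inv_mem a
    rw [mul_inv_rev, gen_inv, ← L_comm (inv_mem hu)] at h
    exact h

theorem el23_reverse : ∀ r : List Nat, el23 r.reverse = (el23 r)⁻¹ := by
  intro r
  induction r with
  | nil => rw [List.reverse_nil, el23, List.map_nil]; exact (map_one _).trans inv_one.symm
  | cons x t ih =>
    have h : el23 [x] * el23 [x] = 1 := by
      apply ξ_injective
      rw [map_mul, map_one, ξ_el23, show pairUp [x] = [node23 x] ++ [11] from rfl, el_append,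
        el_single (node23_lt x), el_single (by norm_num), node23,
        (Fi24Index.spells.enc_lt _).2]
      show gen (node (Fi23Index31671.dec x).1) * L *
        (gen (node (Fi23Index31671.dec x).1) * L) = 1
      have hc : L * gen (node (Fi23Index31671.dec x).1) =
          gen (node (Fi23Index31671.dec x).1) * L := (L_comm (gen_mem (node_ne _))).symm
      rw [mul_assoc, ← mul_assoc L, hc, ← mul_assoc, ← mul_assoc, gen_sq, one_mul, gen_sq]
    rw [List.reverse_cons, el23_append, ih, show x :: t = [x] ++ t from rfl, el23_append,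
      mul_inv_rev, inv_eq_of_mul_eq_one_right h]

/-- The fixed point of `a, …, i` among those commuting with `l`. -/
def p0 : Fin 306936 := ⟨pointZero, by decide⟩

/-- The stabiliser of that point in Fi23. -/
noncomputable def S0 : Subgroup Cfsg.Spor.Fi23 where
  carrier := {y | φ (ξ y) p0 = p0}
  one_mem' := by simp
  mul_mem' := fun {x y} hx hy => by
    show φ (ξ (x * y)) p0 = p0
    rw [map_mul, map_mul, Equiv.Perm.mul_apply, hy, hx]
  inv_mem' := fun {x} hx => by
    show φ (ξ x⁻¹) p0 = p0
    rw [map_inv, map_inv, Equiv.Perm.inv_eq_iff_eq]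
    exact hx.symm

/-- The subgroup of Fi23 fixing its base point. -/
abbrev H23 : Subgroup Cfsg.Spor.Fi23 :=
  Data.sub (Cfsg.Spor.coxRelators Cfsg.Spor.Fi23.edges ∪ {r | r ∈ Cfsg.Spor.Fi23.extra})
    Fi23Index31671.subGens

theorem S0_eq : S0 = H23 := by
  have hle : H23 ≤ S0 := by
    rw [H23, Data.sub, Subgroup.map_le_iff_le_comap, Subgroup.closure_le]
    intro s hs
    simp only [Fi23Index31671.subGens, List.mem_cons, List.not_mem_nil, or_false,
      Set.mem_ofPred_eq] at hs
    have key : ∀ x, x < 10 → x ≠ 7 → φ (ξ (el23 [x])) p0 = p0 := by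
      intro x hx hx7
      apply Fin.ext
      rw [ξ_el23, φ_apply _ pairUp_lt]
      interval_cases x <;> first | exact absurd rfl hx7 | decide +kernel
    rcases hs with rfl | rfl | rfl | rfl | rfl | rfl | rfl | rfl | rfl
    exacts [key 0 (by norm_num) (by norm_num), key 1 (by norm_num) (by norm_num),
      key 2 (by norm_num) (by norm_num), key 3 (by norm_num) (by norm_num),
      key 4 (by norm_num) (by norm_num), key 5 (by norm_num) (by norm_num),
      key 6 (by norm_num) (by norm_num), key 8 (by norm_num) (by norm_num),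
      key 9 (by norm_num) (by norm_num)]
  have hcl : Fi24Suborbits.cls pointZero = 1 := by decide +kernel
  have hLp : φ L p0 = p0 := by
    apply Fin.ext
    rw [show L = el [11] from (el_single (x := 11) (by norm_num)).symm, φ_apply _ (by decide)]
    decide +kernel
  have horb : ∀ c ∈ Fi24Suborbits.part 1, ∃ y, φ (ξ y) p0 = c := by
    intro c hc
    obtain ⟨g, hg, hgc⟩ := same_part (c := p0) (d := c) (hcl.trans (Finset.mem_filter.1 hc).2.symm)
    rcases H_split hg with ⟨y, hy⟩ | ⟨y, hy⟩
    · exact ⟨y, by rw [hy]; exact hgc⟩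
    · refine ⟨y, ?_⟩
      rw [hy, map_mul, Equiv.Perm.mul_apply, hLp, hgc]
  choose f hf using horb
  haveI : Finite Cfsg.Spor.Fi23 := Fi23Order.card_bound.1
  haveI : Finite (Cfsg.Spor.Fi23 ⧸ S0) := Quotient.finite _
  have h1 : 31671 ≤ S0.index := by
    rw [← Fi24Suborbits.part_card.1, ← Nat.card_eq_finsetCard]
    refine Nat.card_le_card_of_injective
      (fun c : Fi24Suborbits.part 1 => ((f c c.2 : Cfsg.Spor.Fi23) : Cfsg.Spor.Fi23 ⧸ S0)) ?_
    intro c d h
    have hm : φ (ξ ((f c c.2)⁻¹ * f d d.2)) p0 = p0 := QuotientGroup.eq.1 h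
    rw [map_mul, map_mul, Equiv.Perm.mul_apply, hf, map_inv, map_inv,
      Equiv.Perm.inv_eq_iff_eq, hf] at hm
    exact Subtype.ext hm.symm
  have h2 := Subgroup.relIndex_mul_index hle
  rw [Fi23Index31671.index_val] at h2
  have h3 : H23.relIndex S0 = 1 := by
    rcases Nat.eq_zero_or_pos (H23.relIndex S0) with h0 | h0
    · rw [h0, Nat.zero_mul] at h2; omega
    · by_contra hne
      have : 2 * 31671 ≤ H23.relIndex S0 * S0.index := Nat.mul_le_mul (by omega) h1
      omega
  exact le_antisymm (Subgroup.relIndex_eq_one.1 h3) hle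

/-- The points that cut down to the identity. -/
noncomputable def checkPoints : List Nat :=
  0 :: basePaths.map fun r => Fi24Index.data.fwd (pairUp r).reverse pointZero

theorem base_paths_ok :
    basePaths.map (fun r => Fi23Index31671.data.fwd r.reverse 0) =
      Fi23Order.levels.map Data.Level.base ∧
    (basePaths.all fun r => r.all fun x => Nat.blt x 10) = true := by decide +kernel

/-- A word is trivial. -/
noncomputable def trivCheck (w : List Nat) : Bool :=
  (w.all fun x => Nat.blt x 12) && (Nat.beq (w.length % 2) 0 &&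
    checkPoints.all fun c => Nat.beq (Fi24Index.data.fwd w c) c)

theorem sign_el : ∀ {w : List Nat}, sign (el w) = Multiplicative.ofAdd ((w.length : ℕ) : ZMod 2) := by
  intro w
  induction w with
  | nil => rw [el_nil, map_one]; rfl
  | cons x t ih =>
    rw [show x :: t = [x] ++ t from rfl, el_append, map_mul, ih]
    have : sign (el [x]) = Multiplicative.ofAdd 1 := by
      have hx : Fi24Index.dec x = ((Fi24Index.dec x).1, true) := by
        unfold Fi24Index.dec; split <;> rfl
      rw [el, List.map_cons, List.map_nil, hx]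
      exact sign_gen _
    rw [this, ← ofAdd_add]
    congr 1
    simp [add_comm]

theorem eq_one_of_check {w : List Nat} (h : trivCheck w = true) : el w = 1 := by
  simp only [trivCheck, Bool.and_eq_true, checkPoints, List.all_cons] at h
  obtain ⟨hlt', hpar, hc0, hpts⟩ := h
  have hlt : ∀ x ∈ w, x < 12 := fun x hx => Nat.ble_eq.mp (List.all_eq_true.1 hlt' x hx)
  have hfix : ∀ c : Fin 306936, Fi24Index.data.fwd w c = c → φ (el w) c = c := by
    intro c hc
    have : (φ (el w))⁻¹ c = c := Fin.ext ((φ_el w hlt c).trans hc)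
    exact (Equiv.Perm.inv_eq_iff_eq.1 this).symm
  have hH : el w ∈ H := fix_iff.1 (hfix c0 (Nat.eq_of_beq_eq_true hc0))
  have hev : el w ∈ sign.ker := by
    rw [MonoidHom.mem_ker, sign_el, (ZMod.natCast_eq_zero_iff_even).2
      (Nat.even_iff.2 (Nat.eq_of_beq_eq_true hpar))]
    rfl
  rcases H_split hH with ⟨y, hy⟩ | ⟨y, hy⟩
  swap
  · exfalso
    have h1 : ξ y ∈ sign.ker := (ξ_range ⟨y, rfl⟩).2
    rw [hy, MonoidHom.mem_ker, map_mul, MonoidHom.mem_ker.1 hev, one_mul, sign_gen] at h1
    revert h1; decide
  obtain ⟨φ', π', hπ', hfwd'⟩ :=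
    Data.enumeration Fi23Index31671.valid Fi23Index31671.spells
  obtain ⟨lw, rfl⟩ : ∃ lw, y = PresentedGroup.mk _ (FreeGroup.mk lw) := by
    obtain ⟨u, rfl⟩ := QuotientGroup.mk_surjective y
    exact ⟨u.toWord, by rw [FreeGroup.mk_toWord]; rfl⟩
  have hfix0 : ∀ g ∈ H23, φ' g ⟨0, by decide +kernel⟩ = ⟨0, by decide +kernel⟩ := by
    intro g hg
    obtain ⟨s, hs, rfl⟩ := Subgroup.mem_map.1 hg
    induction hs using Subgroup.closure_induction with
    | mem s hs =>
      have h1 := hfwd' s.toWord ⟨0, by decide +kernel⟩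
      rw [FreeGroup.mk_toWord] at h1
      have h2 : (s.toWord.map (Data.code Fi23Index31671.data.iv Fi23Index31671.enc)) ∈
          Fi23Index31671.data.W.drop Fi23Index31671.data.nR :=
        Fi23Index31671.spells.drop_eq ▸ List.mem_map_of_mem hs
      rw [Nat.eq_of_beq_eq_true (List.all_eq_true.1 Fi23Index31671.valid.subs _ h2)] at h1
      exact (Equiv.Perm.inv_eq_iff_eq.1 (Fin.ext h1)).symm
    | one => simp
    | mul x y hx hy h1 h2 =>
      simp [h1 (Subgroup.mem_map_of_mem _ hx), h2 (Subgroup.mem_map_of_mem _ hy)]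
    | inv x hx h1 =>
      rw [map_inv, map_inv, Equiv.Perm.inv_eq_iff_eq]
      exact (h1 (Subgroup.mem_map_of_mem _ hx)).symm
  rw [← hy]
  have hy1 : PresentedGroup.mk (Cfsg.Spor.coxRelators Cfsg.Spor.Fi23.edges ∪
      {r | r ∈ Cfsg.Spor.Fi23.extra}) (FreeGroup.mk lw) = 1 := by
    refine Data.eq_one_of_fixes_bases Fi23Index31671.valid Fi23Index31671.spells φ' hfwd'
      Fi23Order.card_bound.1 Fi23Order.card_bound.2 (by norm_num) Fi23Order.levels
      Fi23Order.levels_ok (by decide +kernel) lw ?_ ?_
    · rw [List.all_eq_true]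
      intro x hx
      obtain ⟨a, _, rfl⟩ := List.mem_map.1 hx
      exact Nat.ble_eq_true_of_le (Data.code_lt Fi23Index31671.enc
        (fun b => (Fi23Index31671.spells.enc_lt b).1) Fi23Index31671.valid a)
    · rw [← base_paths_ok.1, List.all_map, List.all_eq_true]
      intro r hr
      have hr10 : ∀ x ∈ r, x < 10 := fun x hx => Nat.ble_eq.mp
        (List.all_eq_true.1 (List.all_eq_true.1 base_paths_ok.2 r hr) x hx)
      have hpt := Nat.eq_of_beq_eq_true (List.all_eq_true.1 hpts _ (List.mem_map_of_mem hr))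
      have hlt2 : Fi24Index.data.fwd (pairUp r).reverse pointZero < 306936 := by
        have := (φ (el (pairUp r)) p0).2
        rwa [φ_apply _ pairUp_lt] at this
      have hq : φ (ξ (el23 r)) p0 = ⟨_, hlt2⟩ :=
        Fin.ext (by rw [ξ_el23, φ_apply _ pairUp_lt]; rfl)
      have hS : (el23 r)⁻¹ * PresentedGroup.mk _ (FreeGroup.mk lw) * el23 r ∈ H23 := by
        rw [← S0_eq]
        show φ (ξ _) p0 = p0
        rw [map_mul, map_mul, map_mul, map_mul, Equiv.Perm.mul_apply, Equiv.Perm.mul_apply, hy,
          hq, hfix _ hpt, ← hq, map_inv, map_inv, ← Equiv.Perm.mul_apply, inv_mul_cancel,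
          Equiv.Perm.one_apply]
      have h0 := hfix0 _ hS
      rw [map_mul, map_mul, map_inv, Equiv.Perm.mul_apply, Equiv.Perm.mul_apply,
        Equiv.Perm.inv_eq_iff_eq] at h0
      have hb : ((φ' (el23 r) ⟨0, by decide +kernel⟩ : Fin _) : Nat) =
          Fi23Index31671.data.fwd r.reverse 0 := by
        have hinv := el23_reverse r
        have h1 := hfwd' (r.reverse.map Fi23Index31671.dec) ⟨0, by decide +kernel⟩
        rw [show PresentedGroup.mk _ (FreeGroup.mk (r.reverse.map Fi23Index31671.dec)) =
          (el23 r)⁻¹ from hinv, map_inv, inv_inv] at h1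
        rw [h1]
        congr 1
        rw [List.map_map]
        conv_rhs => rw [← List.map_id r.reverse]
        exact List.map_congr_left fun x hx =>
          Fi23Index31671.spells.code_dec x (hr10 x (List.mem_reverse.1 hx))
      show Nat.beq (Fi23Index31671.data.fwd _ (Fi23Index31671.data.fwd r.reverse 0))
        (Fi23Index31671.data.fwd r.reverse 0) = true
      rw [← hb, ← hfwd' lw]
      rw [congrArg Fin.val (Equiv.Perm.inv_eq_iff_eq.2 h0.symm)]
      exact Nat.beq_refl _
  rw [hy1, map_one]

/-- The word of a generator of the Held group. -/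
def heWord : Cfsg.Spor.He.Gen → List Nat
  | .a => wordA
  | .b => wordB
  | .c => wordC
  | .d => wordD
  | .e => wordE
  | .f => wordF
  | .g => wordG

theorem heWord_lt (x : Cfsg.Spor.He.Gen) : ∀ y ∈ heWord x, y < 12 := by
  have h : ((heWord x).all fun y => Nat.blt y 12) = true := by cases x <;> decide +kernel
  exact fun y hy => Nat.ble_eq.mp (List.all_eq_true.1 h y hy)

/-- The word of a list of signed letters. -/
def expand (l : List (Cfsg.Spor.He.Gen × Bool)) : List Nat :=
  l.flatMap fun a => cond a.2 (heWord a.1) (heWord a.1).reverse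

theorem lift_expand : ∀ l : List (Cfsg.Spor.He.Gen × Bool),
    FreeGroup.lift (fun x => el (heWord x)) (FreeGroup.mk l) = el (expand l) := by
  intro l
  induction l with
  | nil => exact (map_one _).trans el_nil.symm
  | cons a t ih =>
    have hs : expand (a :: t) = cond a.2 (heWord a.1) (heWord a.1).reverse ++ expand t := rfl
    rw [hs, el_append, ← ih, show FreeGroup.mk (a :: t) = FreeGroup.mk [a] * FreeGroup.mk t from
      (FreeGroup.mul_mk (L₁ := [a]) (L₂ := t)).symm, map_mul]
    congr 1
    obtain ⟨x, _ | _⟩ := a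
    · simp [el_reverse (heWord_lt x)]
    · simp

theorem he_rels : ∀ r ∈ Cfsg.Spor.coxRelators Cfsg.Spor.He.edges ∪ {r | r ∈ Cfsg.Spor.He.extra},
    FreeGroup.lift (fun x => el (heWord x)) r = 1 := by
  have hcox : ([Cfsg.Spor.He.Gen.a, .b, .c, .d, .e, .f, .g].all fun x =>
      [Cfsg.Spor.He.Gen.a, .b, .c, .d, .e, .f, .g].all fun y =>
        trivCheck (expand (powPair x y (Cfsg.Spor.coxLabel Cfsg.Spor.He.edges x y)))) = true := by
    decide +kernel
  have hext : (Cfsg.Spor.He.extra.all fun r => trivCheck (expand r.toWord)) = true := by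
    decide +kernel
  rintro r (⟨x, -, y, -, rfl⟩ | hr)
  · rw [← mk_powPair, lift_expand]
    apply eq_one_of_check
    have hx : x ∈ [Cfsg.Spor.He.Gen.a, .b, .c, .d, .e, .f, .g] := by cases x <;> decide
    have hy : y ∈ [Cfsg.Spor.He.Gen.a, .b, .c, .d, .e, .f, .g] := by cases y <;> decide
    exact List.all_eq_true.1 (List.all_eq_true.1 hcox x hx) y hy
  · rw [← FreeGroup.mk_toWord (x := r), lift_expand]
    exact eq_one_of_check (List.all_eq_true.1 hext r hr)

/-- The Held group into Fi24. -/
noncomputable def heHom : Cfsg.Spor.He →* G :=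
  PresentedGroup.toGroup (f := fun x => el (heWord x)) he_rels

theorem heHom_of (x : Cfsg.Spor.He.Gen) : heHom (PresentedGroup.of x) = el (heWord x) :=
  PresentedGroup.toGroup.of (f := fun x => el (heWord x)) he_rels

theorem heHom_ne : heHom (PresentedGroup.of Cfsg.Spor.He.Gen.b) ≠ 1 := by
  intro h
  have h' : el (heWord .b) = 1 := (heHom_of _).symm.trans h
  have hp := φ_el (heWord .b) (heWord_lt _) c0
  rw [h', map_one, inv_one, Equiv.Perm.one_apply] at hp
  revert hp
  decide +kernel

theorem heHom_injective : Function.Injective heHom := by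
  haveI := HeOrder.order_and_simple.1
  rw [← MonoidHom.ker_eq_bot_iff]
  refine (heHom.normal_ker.eq_bot_or_eq_top).resolve_right fun h => heHom_ne ?_
  rw [← MonoidHom.mem_ker, h]
  trivial

theorem heHom_even (x : Cfsg.Spor.He) : heHom x ∈ sign.ker := by
  have hgen : ∀ b, (sign.comp heHom) (PresentedGroup.of b) = 1 := by
    intro b
    have h : Even (heWord b).length := by cases b <;> decide +kernel
    show sign (heHom (PresentedGroup.of b)) = 1
    rw [heHom_of, sign_el,
      (ZMod.natCast_eq_zero_iff_even).2 h]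
    rfl
  have e : sign.comp heHom = 1 := PresentedGroup.ext hgen
  exact DFunLike.congr_fun e x

theorem isHe_range : Cfsg.IsHe heHom.range := by
  let e := MonoidHom.ofInjective heHom_injective
  haveI := HeOrder.order_and_simple.1
  haveI : Nontrivial heHom.range := e.symm.toEquiv.nontrivial
  exact ⟨IsSimpleGroup.isSimpleGroup_of_surjective (f := e.toMonoidHom) e.surjective,
    (Nat.card_congr e.toEquiv).symm.trans HeOrder.order_and_simple.2⟩

end Cfsg.Agent.Fi24
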