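import Cfsg.Agent.Fi24.Basic
import Cfsg.Prelude.Def_Sporadic

/-!
Fi24 has a simple commutator subgroup of index 2: every non-trivial normal subgroup has index at
most 2, by primitivity on the 306936 points and the simplicity of Fi23.
-/

set_option maxRecDepth 100000
set_option autoImplicit false

namespace Cfsg.Agent.Fi24

open Cfsg.Agent.CosetCert
open scoped commutatorElement Pointwise

/-- `a` followed by `b` and `a` again is `b, a, b`, when `a, b` are joined. -/
theorem braid {x y : Cfsg.Spor.Fi24.Gen}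
    (h : Cfsg.Spor.coxLabel Cfsg.Spor.Fi24.edges x y = 3) :
    gen x * gen y * gen x = gen y * gen x * gen y := by
  have hn : ∀ z : Cfsg.Spor.Fi24.Gen, z ∈ Cfsg.Spor.coxNodes Cfsg.Spor.Fi24.edges := by
    intro z; cases z <;> decide
  have h3 : (gen x * gen y) ^ 3 = 1 := by
    have h3 := PresentedGroup.one_of_mem (rels := R)
      (x := (FreeGroup.of x * FreeGroup.of y) ^ 3) (Or.inl ⟨x, hn x, y, hn y, by rw [h]⟩)
    rwa [map_pow, map_mul] at h3
  have h4 : gen x * gen y * gen x * (gen y * gen x * gen y) = 1 := by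
    rw [← h3]; simp only [pow_succ, pow_zero, one_mul, mul_assoc]
  rw [eq_inv_of_mul_eq_one_left h4, mul_inv_rev, mul_inv_rev, gen_inv, gen_inv, ← mul_assoc]

/-- Joined nodes are conjugate. -/
theorem conj_step {x y : Cfsg.Spor.Fi24.Gen}
    (h : Cfsg.Spor.coxLabel Cfsg.Spor.Fi24.edges x y = 3) :
    gen y = (gen x * gen y) * gen x * (gen x * gen y)⁻¹ := by
  have e := braid h
  rw [mul_inv_rev, gen_inv, gen_inv, e]
  simp only [mul_assoc]
  rw [← mul_assoc (gen y) (gen y), gen_sq, one_mul, gen_sq, mul_one]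

theorem isConj_L (x : Cfsg.Spor.Fi24.Gen) : IsConj L (gen x) := by
  have st : ∀ {x y : Cfsg.Spor.Fi24.Gen}, IsConj L (gen x) →
      Cfsg.Spor.coxLabel Cfsg.Spor.Fi24.edges x y = 3 → IsConj L (gen y) := by
    intro x y hx h
    exact hx.trans (isConj_iff.2 ⟨gen x * gen y, (conj_step h).symm⟩)
  have hl : IsConj L (gen .l) := IsConj.refl _
  have hk : IsConj L (gen .k) := st hl (by decide)
  have ha : IsConj L (gen .a) := st hk (by decide)
  have hb : IsConj L (gen .b) := st ha (by decide)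
  have hc : IsConj L (gen .c) := st hb (by decide)
  have hd : IsConj L (gen .d) := st hc (by decide)
  have he : IsConj L (gen .e) := st hd (by decide)
  have hf : IsConj L (gen .f) := st he (by decide)
  have hg : IsConj L (gen .g) := st hf (by decide)
  have hj : IsConj L (gen .j) := st hg (by decide)
  have hh : IsConj L (gen .h) := st hd (by decide)
  have hi : IsConj L (gen .i) := st hh (by decide)
  cases x <;> assumption

theorem top_of_L_mem {M : Subgroup G} (hM : M.Normal) (h : L ∈ M) : M = ⊤ := by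
  rw [eq_top_iff, ← PresentedGroup.closure_range_of, Subgroup.closure_le]
  rintro _ ⟨x, rfl⟩
  obtain ⟨c, hc⟩ := isConj_iff.1 (isConj_L x)
  show gen x ∈ M
  rw [← hc]
  exact hM.conj_mem _ h c

/-- The point of an orbit's root. -/
theorem exists_root (c : Fin 306936) :
    ∀ (r : Fin 306936), (r : Nat) = Fi24Suborbits.rootOf (Fi24Suborbits.cls c) →
      ∃ h ∈ H, φ h r = c := by
  intro r hr
  obtain ⟨r', hr', hh⟩ := exists_mem_H c
  rwa [show r = r' from Fin.ext (hr.trans hr'.symm)]

theorem same_part {c d : Fin 306936} (h : Fi24Suborbits.cls c = Fi24Suborbits.cls d) :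
    ∃ g ∈ H, φ g c = d := by
  obtain ⟨r, hr, u, hu, huc⟩ := exists_mem_H c
  obtain ⟨v, hv, hvd⟩ := exists_root d r (hr.trans (by rw [h]))
  refine ⟨v * u⁻¹, mul_mem hv (inv_mem hu), ?_⟩
  rw [← huc, map_mul, Equiv.Perm.mul_apply, ← Equiv.Perm.mul_apply (φ u⁻¹), ← map_mul,
    inv_mul_cancel, map_one, Equiv.Perm.one_apply, hvd]

theorem card_orbit_cases (Ω : Set (Fin 306936)) (h0 : c0 ∈ Ω)
    (hinv : ∀ g ∈ H, ∀ c ∈ Ω, φ g c ∈ Ω) (hdvd : Ω.ncard ∣ 306936) :
    Ω = {c0} ∨ Ω = Set.univ := by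
  classical
  have hpart : ∀ s, (∀ c ∈ Fi24Suborbits.part s, c ∈ Ω) ∨
      ∀ c ∈ Fi24Suborbits.part s, c ∉ Ω := by
    intro s
    rw [or_iff_not_imp_right]
    intro hs
    push Not at hs
    obtain ⟨c, hc, hcΩ⟩ := hs
    intro d hd
    obtain ⟨g, hg, hgd⟩ := same_part ((Finset.mem_filter.1 hc).2.trans (Finset.mem_filter.1 hd).2.symm)
    exact hgd ▸ hinv g hg c hcΩ
  have hmem : ∀ c : Fin 306936, c = c0 ∨ c ∈ Fi24Suborbits.part 1 ∨
      c ∈ Fi24Suborbits.part 31672 := by
    intro c
    rcases Fi24Suborbits.cls_cases c with h | h | h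
    · exact Or.inl (Fin.ext (Fi24Suborbits.cls_zero c.2 h))
    · exact Or.inr (Or.inl (Finset.mem_filter.2 ⟨Finset.mem_univ _, h⟩))
    · exact Or.inr (Or.inr (Finset.mem_filter.2 ⟨Finset.mem_univ _, h⟩))
  have hcls0 : Fi24Suborbits.cls (c0 : Nat) = 0 := by decide +kernel
  have hnot : ∀ s, s ≠ 0 → c0 ∉ Fi24Suborbits.part s := fun s hs h =>
    hs ((Finset.mem_filter.1 h).2.symm.trans hcls0)
  rcases hpart 1 with h1 | h1 <;> rcases hpart 31672 with h2 | h2
  · right
    refine Set.eq_univ_of_forall fun c => ?_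
    rcases hmem c with rfl | h | h
    exacts [h0, h1 c h, h2 c h]
  · exfalso
    have e : Ω = ↑(insert c0 (Fi24Suborbits.part 1)) := by
      ext c
      rw [Finset.mem_coe, Finset.mem_insert]
      constructor
      · intro hc
        rcases hmem c with h | h | h
        exacts [Or.inl h, Or.inr h, absurd hc (h2 c h)]
      · rintro (rfl | h)
        exacts [h0, h1 c h]
    rw [e, Set.ncard_coe_finset, Finset.card_insert_of_notMem (hnot 1 (by norm_num)),
      Fi24Suborbits.part_card.1] at hdvd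
    revert hdvd
    decide +kernel
  · exfalso
    have e : Ω = ↑(insert c0 (Fi24Suborbits.part 31672)) := by
      ext c
      rw [Finset.mem_coe, Finset.mem_insert]
      constructor
      · intro hc
        rcases hmem c with h | h | h
        exacts [Or.inl h, absurd hc (h1 c h), Or.inr h]
      · rintro (rfl | h)
        exacts [h0, h2 c h]
    rw [e, Set.ncard_coe_finset, Finset.card_insert_of_notMem (hnot 31672 (by norm_num)),
      Fi24Suborbits.part_card.2] at hdvd
    revert hdvd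
    decide +kernel
  · left
    refine Set.eq_singleton_iff_unique_mem.2 ⟨h0, fun c hc => ?_⟩
    rcases hmem c with h | h | h
    exacts [h, absurd hc (h1 c h), absurd hc (h2 c h)]

theorem normal_transitive {M : Subgroup G} (hM : M.Normal) (hne : M ≠ ⊥) (c : Fin 306936) :
    ∃ m ∈ M, φ m c0 = c := by
  let Ω : Set (Fin 306936) := {c | ∃ m ∈ M, φ m c0 = c}
  have hinv : ∀ g ∈ H, ∀ c ∈ Ω, φ g c ∈ Ω := by
    rintro g hg _ ⟨m, hm, rfl⟩
    refine ⟨g * m * g⁻¹, hM.conj_mem m hm g, ?_⟩
    rw [map_mul, map_mul, Equiv.Perm.mul_apply, Equiv.Perm.mul_apply, φ_H_c0 (inv_mem hg)]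
  letI : MulAction G (Fin 306936) := MulAction.compHom _ φ
  haveI : MulAction.IsPretransitive G (Fin 306936) :=
    ⟨fun x y => by
      obtain ⟨g, hg⟩ := transitive x
      obtain ⟨g', hg'⟩ := transitive y
      refine ⟨g' * g⁻¹, ?_⟩
      show φ (g' * g⁻¹) x = y
      rw [← hg, map_mul, map_inv, Equiv.Perm.mul_apply, ← Equiv.Perm.mul_apply _ (φ g),
        inv_mul_cancel, Equiv.Perm.one_apply, hg']⟩
  have hΩ : Ω = MulAction.orbit M c0 := by
    ext d
    exact ⟨fun ⟨g, hg, h⟩ => ⟨⟨g, hg⟩, h⟩, fun ⟨⟨g, hg⟩, h⟩ => ⟨g, hg, h⟩⟩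
  have hB : MulAction.IsBlock G Ω := by rw [hΩ]; exact MulAction.IsBlock.orbit_of_normal c0
  have h0 : c0 ∈ Ω := ⟨1, one_mem _, by rw [map_one]; rfl⟩
  have hdvd : Ω.ncard ∣ 306936 := by
    have h2 := hB.ncard_dvd_card ⟨c0, h0⟩
    rwa [Nat.card_fin] at h2
  rcases card_orbit_cases Ω h0 hinv hdvd with h | h
  · exfalso
    apply hne
    rw [eq_bot_iff]
    intro m hm
    rw [Subgroup.mem_bot]
    apply φ_injective
    rw [map_one]
    ext1 d
    obtain ⟨g, rfl⟩ := transitive d
    have hmem : φ (g⁻¹ * m * g) c0 ∈ Ω := ⟨_, by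
      have := hM.conj_mem m hm g⁻¹
      rwa [inv_inv] at this, rfl⟩
    rw [h, Set.mem_singleton_iff, map_mul, map_mul, map_inv, Equiv.Perm.mul_apply,
      Equiv.Perm.mul_apply, Equiv.Perm.inv_eq_iff_eq] at hmem
    rw [hmem, Equiv.Perm.one_apply]
  · have : c ∈ Ω := h ▸ Set.mem_univ c
    exact this

theorem not_regular {M : Subgroup G} (hM : M.Normal) (hne : M ≠ ⊥) :
    ∃ m ∈ M, m ∈ H ∧ m ≠ 1 := by
  by_contra hcon
  push Not at hcon
  have huniq : ∀ m ∈ M, ∀ m' ∈ M, φ m c0 = φ m' c0 → m = m' := by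
    intro m hm m' hm' h
    refine (inv_mul_eq_one.1 (hcon _ (mul_mem (inv_mem hm') hm) (fix_iff.1 ?_))).symm
    rw [map_mul, map_inv, Equiv.Perm.mul_apply, h, ← Equiv.Perm.mul_apply,
      inv_mul_cancel, Equiv.Perm.one_apply]
  let e : M ≃ Fin 306936 := Equiv.ofBijective (fun m : M => φ (m : G) c0)
    ⟨fun m m' h => Subtype.ext (huniq _ m.2 _ m'.2 h), fun c => by
      obtain ⟨m, hm, hc⟩ := normal_transitive hM hne c
      exact ⟨⟨m, hm⟩, hc⟩⟩
  have hcard : Nat.card M = 306936 := by rw [Nat.card_congr e, Nat.card_fin]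
  have hord : ∀ m m' : M,
      Fi24Suborbits.cls (φ (m : G) c0) = Fi24Suborbits.cls (φ (m' : G) c0) →
        orderOf m = orderOf m' := by
    intro m m' h
    obtain ⟨g, hg, hgm⟩ := same_part h
    have e' : g * (m : G) * g⁻¹ = m' := huniq _ (hM.conj_mem _ m.2 g) _ m'.2 (by
      rw [map_mul, map_mul, Equiv.Perm.mul_apply, Equiv.Perm.mul_apply, φ_H_c0 (inv_mem hg), hgm])
    rw [← Subgroup.orderOf_coe, ← Subgroup.orderOf_coe m', ← e']
    exact (SemiconjBy.orderOf_eq g (by simp [SemiconjBy, mul_assoc]))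
  have hp : ∀ p : Nat, p.Prime → p ∣ 306936 → ∃ m : M, orderOf m = p ∧
      (Fi24Suborbits.cls (φ (m : G) c0) = 1 ∨ Fi24Suborbits.cls (φ (m : G) c0) = 31672) := by
    intro p hp hd
    haveI := Fact.mk hp
    obtain ⟨m, hm⟩ := exists_prime_orderOf_dvd_card' (G := M) p (hcard ▸ hd)
    refine ⟨m, hm, (Fi24Suborbits.cls_cases _).resolve_left fun h => ?_⟩
    have e1 : (m : G) = 1 := huniq _ m.2 _ (one_mem _) (by
      rw [map_one, Equiv.Perm.one_apply]
      exact Fin.ext (Fi24Suborbits.cls_zero (φ (m : G) c0).2 h))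
    have : m = 1 := Subtype.ext e1
    rw [this, orderOf_one] at hm
    exact hp.ne_one hm.symm
  obtain ⟨m2, o2, h2⟩ := hp 2 Nat.prime_two (by norm_num)
  obtain ⟨m3, o3, h3⟩ := hp 3 Nat.prime_three (by norm_num)
  obtain ⟨m7, o7, h7⟩ := hp 7 (by norm_num) (by norm_num)
  rcases h2 with a | a <;> rcases h3 with b | b <;> rcases h7 with c | c <;>
    first
      | (have := hord m2 m3 (a.trans b.symm); omega)
      | (have := hord m2 m7 (a.trans c.symm); omega)
      | (have := hord m3 m7 (b.trans c.symm); omega)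

theorem index_le_two {M : Subgroup G} (hM : M.Normal) (hne : M ≠ ⊥) : M.index ≤ 2 := by
  obtain ⟨m, hm, hmH, hm1⟩ := not_regular hM hne
  by_cases hL : L ∈ M
  · rw [top_of_L_mem hM hL, Subgroup.index_top]; norm_num
  haveI := Fi23Order.order_and_simple.1
  let MH : Subgroup H := M.subgroupOf H
  have hn : ((MH.map (QuotientGroup.mk' Z)).comap θ).Normal :=
    Subgroup.Normal.comap (Subgroup.Normal.map (hM.subgroupOf H) _
      (QuotientGroup.mk'_surjective Z)) θ
  rcases hn.eq_bot_or_eq_top with h | h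
  · exfalso
    obtain ⟨y, hy⟩ := θ_surjective (QuotientGroup.mk' Z ⟨m, hmH⟩)
    have hy1 : y = 1 := by
      rw [← Subgroup.mem_bot, ← h, Subgroup.mem_comap, hy]
      exact Subgroup.mem_map_of_mem _ (show (⟨m, hmH⟩ : H) ∈ MH from hm)
    rw [hy1, map_one] at hy
    rcases mem_Z ((QuotientGroup.eq_one_iff _).1 hy.symm) with e | e
    · exact hm1 (congrArg Subtype.val e)
    · exact hL (e ▸ hm)
  · -- every element is in `M` or `M * l`
    have hH : ∀ g ∈ H, g ∈ M ∨ g * L ∈ M := by
      intro g hg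
      obtain ⟨y, hy⟩ := θ_surjective (QuotientGroup.mk' Z ⟨g, hg⟩)
      have hmem : θ y ∈ MH.map (QuotientGroup.mk' Z) := by
        rw [← Subgroup.mem_comap, h]; trivial
      rw [hy] at hmem
      obtain ⟨x, hx, hxg⟩ := hmem
      rcases mem_Z (QuotientGroup.eq.1 hxg) with e | e
      · left
        have : x = ⟨g, hg⟩ := inv_mul_eq_one.1 e
        have hx' : (x : G) ∈ M := hx
        rwa [this] at hx'
      · right
        have e' : (x : G)⁻¹ * g = L := e
        have hg' : g = x * L := by rw [← e', mul_inv_cancel_left]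
        rw [hg', mul_assoc, gen_sq, mul_one]
        exact hx
    have hall : ∀ g : G, g ∈ M ∨ g * L ∈ M := by
      intro g
      obtain ⟨m', hm', hc⟩ := normal_transitive hM hne (φ g c0)
      have hgm : m'⁻¹ * g ∈ H := fix_iff.1 (by
        rw [map_mul, Equiv.Perm.mul_apply, ← hc, map_inv, ← Equiv.Perm.mul_apply,
          inv_mul_cancel, Equiv.Perm.one_apply])
      rcases hH _ hgm with h' | h'
      · left; simpa using mul_mem hm' h'
      · right; simpa [mul_assoc] using mul_mem hm' h'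
    refine le_of_eq_of_le (Nat.card_congr (Equiv.refl (G ⧸ M))) ?_
    have hsurj : Function.Surjective
        (fun b : Bool => (cond b (1 : G ⧸ M) ((L : G) : G ⧸ M))) := by
      intro q
      obtain ⟨g, rfl⟩ := QuotientGroup.mk_surjective q
      rcases hall g with h' | h'
      · exact ⟨true, ((QuotientGroup.eq_one_iff g).2 h').symm⟩
      · refine ⟨false, ?_⟩
        show ((L : G) : G ⧸ M) = (g : G ⧸ M)
        rw [QuotientGroup.eq, gen_inv]
        have := hM.conj_mem _ h' L
        simpa [mul_assoc, gen_inv, gen_sq] using this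
    exact (Nat.card_le_card_of_surjective _ hsurj).trans (by simp)

/-- The sign: every generator is odd. -/
noncomputable def sign : G →* Multiplicative (ZMod 2) :=
  PresentedGroup.toGroup (f := fun _ => Multiplicative.ofAdd (1 : ZMod 2)) (by
    rintro r (⟨x, -, y, -, rfl⟩ | hr)
    · rw [map_pow, map_mul, FreeGroup.lift_apply_of, FreeGroup.lift_apply_of]
      rw [show (Multiplicative.ofAdd (1 : ZMod 2)) * Multiplicative.ofAdd 1 = 1 by decide, one_pow]
    · simp only [Cfsg.Spor.Fi24.extra, List.mem_cons, List.not_mem_nil, or_false,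
        Set.mem_ofPred_eq] at hr
      rcases hr with rfl | rfl <;>
        simp only [map_mul, map_inv, map_pow, FreeGroup.lift_apply_of] <;> decide)

theorem sign_gen (x : Cfsg.Spor.Fi24.Gen) : sign (gen x) = Multiplicative.ofAdd 1 :=
  PresentedGroup.toGroup.of _

theorem index_ker : sign.ker.index = 2 := by
  have hs : Function.Surjective sign := fun m => by
    have : m = 1 ∨ m = Multiplicative.ofAdd 1 := by revert m; decide
    rcases this with rfl | rfl
    exacts [⟨1, map_one _⟩, ⟨L, sign_gen _⟩]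
  rw [Subgroup.index_ker, MonoidHom.range_eq_top.2 hs, Subgroup.card_top]
  rw [Nat.card_eq_fintype_card]
  rfl

theorem card_ker : Nat.card sign.ker = 1255205709190661721292800 := by
  have h := sign.ker.card_mul_index
  rw [index_ker, card_G] at h
  omega

theorem ker_le {M : Subgroup G} (hM : M.Normal) (hne : M ≠ ⊥) : sign.ker ≤ M := by
  have hi : (M ⊓ sign.ker) ≠ ⊥ := by
    intro hb
    have h1 := index_le_two hM hne
    have h2 := M.card_mul_index
    have hinj : Function.Injective (sign.comp M.subtype) := by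
      rw [← MonoidHom.ker_eq_bot_iff, eq_bot_iff]
      intro x hx
      have : (x : G) ∈ M ⊓ sign.ker := ⟨x.2, hx⟩
      rw [hb, Subgroup.mem_bot] at this
      exact Subtype.ext this
    have h3 : Nat.card M ≤ 2 :=
      (Nat.card_le_card_of_injective _ hinj).trans_eq (by rw [Nat.card_eq_fintype_card]; rfl)
    rw [card_G] at h2
    have : Nat.card M * M.index ≤ 2 * 2 := Nat.mul_le_mul h3 h1
    omega
  have h1 := index_le_two (Subgroup.normal_inf_normal (H := M) (K := sign.ker)) hi
  have h2 := (M ⊓ sign.ker).card_mul_index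
  have h3 : Nat.card sign.ker ≤ Nat.card (M ⊓ sign.ker : Subgroup G) := by
    rw [card_ker]
    rw [card_G] at h2
    have h4 := Nat.mul_le_mul_left (Nat.card (M ⊓ sign.ker : Subgroup G)) h1
    omega
  have h4 := Subgroup.eq_of_le_of_card_ge (inf_le_right : M ⊓ sign.ker ≤ sign.ker) h3
  rw [← h4]
  exact inf_le_left

theorem commutator_eq : commutator G = sign.ker := by
  refine le_antisymm (Abelianization.commutator_subset_ker sign) (ker_le inferInstance ?_)
  intro hb
  have h : Commute (gen .k) L := by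
    have hmem : ⁅gen Cfsg.Spor.Fi24.Gen.k, L⁆ ∈ commutator G :=
      Subgroup.commutator_mem_commutator (Subgroup.mem_top _) (Subgroup.mem_top _)
    rw [hb, Subgroup.mem_bot] at hmem
    exact commutatorElement_eq_one_iff_commute.1 hmem
  have hb' := braid (x := Cfsg.Spor.Fi24.Gen.k) (y := .l) (by decide)
  rw [h.eq, mul_assoc, gen_sq, mul_one, mul_assoc, h.eq, ← mul_assoc, gen_sq, one_mul] at hb'
  have hk : φ (gen .k) c0 = c0 := by rw [← hb']; exact φ_H_c0 L_mem
  have := φ_apply [0] (by decide) c0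
  rw [el_single (by norm_num)] at this
  rw [show gen (Fi24Index.dec 0).1 = gen .k from rfl, hk] at this
  revert this
  decide +kernel

theorem ker_simple : IsSimpleGroup sign.ker := by
  have hcard := card_ker
  haveI : Nontrivial sign.ker :=
    Finite.one_lt_card_iff_nontrivial.1 (by rw [hcard]; norm_num)
  refine { exists_pair_ne := exists_pair_ne _, eq_bot_or_eq_top_of_normal := fun N hN => ?_ }
  by_contra hcon
  push Not at hcon
  obtain ⟨hbot, htop⟩ := hcon
  let A : Subgroup G := N.map sign.ker.subtype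
  let B : Subgroup G := A.map (MulAut.conj L).toMonoidHom
  have hA : A ≤ sign.ker := Subgroup.map_subtype_le N
  have hAc : ∀ g ∈ sign.ker, ∀ a ∈ A, g * a * g⁻¹ ∈ A := by
    rintro g hg _ ⟨a, ha, rfl⟩
    exact ⟨⟨g, hg⟩ * a * ⟨g, hg⟩⁻¹, hN.conj_mem a ha _, rfl⟩
  have hcases : ∀ g : G, g ∈ sign.ker ∨ g * L ∈ sign.ker := by
    intro g
    rw [MonoidHom.mem_ker, MonoidHom.mem_ker, map_mul, sign_gen]
    generalize sign g = m
    revert m
    decide
  have hLL : ∀ u : G, L * (L * u * L⁻¹) * L⁻¹ = u := fun u => by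
    simp only [gen_inv, ← mul_assoc, gen_sq, one_mul]
    rw [mul_assoc, gen_sq, mul_one]
  have hL2 : ∀ z : G, L * (L * z) = z := fun z => by rw [← mul_assoc, gen_sq, one_mul]
  have hsw : ∀ g ∈ sign.ker, L * g * L⁻¹ ∈ sign.ker := fun g hg =>
    (inferInstance : sign.ker.Normal).conj_mem g hg L
  have hBmem : ∀ u, u ∈ B ↔ L * u * L⁻¹ ∈ A := by
    intro u
    constructor
    · rintro ⟨a, ha, rfl⟩
      show L * (L * a * L⁻¹) * L⁻¹ ∈ A
      rw [hLL]; exact ha
    · intro hu
      exact ⟨_, hu, hLL u⟩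
  have hBc : ∀ g ∈ sign.ker, ∀ b ∈ B, g * b * g⁻¹ ∈ B := by
    intro g hg b hb
    rw [hBmem] at hb ⊢
    have := hAc _ (hsw g hg) _ hb
    simpa [mul_assoc] using this
  have hswapA : ∀ u, u ∈ A → L * u * L⁻¹ ∈ B := fun u hu => by rw [hBmem, hLL]; exact hu
  -- the intersection and the join are normal
  have hI : (A ⊓ B).Normal := ⟨fun u hu g => by
    rcases hcases g with hg | hg
    · exact ⟨hAc g hg u hu.1, hBc g hg u hu.2⟩
    · have e : g * u * g⁻¹ = (g * L) * (L * u * L⁻¹) * (g * L)⁻¹ := by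
        simp only [mul_inv_rev, gen_inv, mul_assoc, hL2]
      rw [e]
      exact ⟨hAc _ hg _ ((hBmem u).1 hu.2), hBc _ hg _ (hswapA u hu.1)⟩⟩
  have hB : B ≤ sign.ker := fun u hu => by
    have h := hsw _ (hA ((hBmem u).1 hu))
    rwa [hLL] at h
  have hAne : A ≠ ⊥ := by
    intro h
    apply hbot
    rwa [← Subgroup.map_eq_bot_iff_of_injective N (Subgroup.subtype_injective _)]
  have hAlt : A ≠ sign.ker := by
    intro h
    apply htop
    rw [eq_top_iff]
    intro x _
    have : (x : G) ∈ A := by rw [h]; exact x.2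
    obtain ⟨a, ha, hax⟩ := this
    rwa [← Subtype.ext hax]
  have hAB : A ⊓ B = ⊥ := by
    by_contra hne
    exact hAlt (le_antisymm hA ((ker_le hI hne).trans inf_le_left))
  have hJ : (A ⊔ B).Normal := by
    refine ⟨fun u hu g => ?_⟩
    have hle : (A ⊔ B).map (MulAut.conj g).toMonoidHom ≤ A ⊔ B := by
      rw [Subgroup.map_sup, sup_le_iff]
      rcases hcases g with hg | hg
      · exact ⟨by rintro _ ⟨a, ha, rfl⟩; exact Subgroup.mem_sup_left (hAc g hg a ha),
          by rintro _ ⟨a, ha, rfl⟩; exact Subgroup.mem_sup_right (hBc g hg a ha)⟩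
      · have e : ∀ u : G, g * u * g⁻¹ = (g * L) * (L * u * L⁻¹) * (g * L)⁻¹ := fun u => by
          simp only [mul_inv_rev, gen_inv, mul_assoc, hL2]
        constructor
        · rintro _ ⟨a, ha, rfl⟩
          show g * a * g⁻¹ ∈ A ⊔ B
          rw [e a]
          exact Subgroup.mem_sup_right (hBc _ hg _ (hswapA a ha))
        · rintro _ ⟨a, ha, rfl⟩
          show g * a * g⁻¹ ∈ A ⊔ B
          rw [e a]
          exact Subgroup.mem_sup_left (hAc _ hg _ ((hBmem a).1 ha))
    exact hle ⟨u, hu, rfl⟩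
  have hjoin : A ⊔ B = sign.ker :=
    le_antisymm (sup_le hA hB) (ker_le hJ fun h => hAne (eq_bot_iff.2 (h ▸ le_sup_left)))
  have hnorm : B ≤ Subgroup.normalizer (A : Set G) := by
    intro b hb
    rw [Subgroup.mem_normalizer_iff]
    refine fun a => ⟨hAc b (hB hb) a, fun ha => ?_⟩
    have := hAc b⁻¹ (inv_mem (hB hb)) _ ha
    simpa [mul_assoc] using this
  have hprod : Nat.card (A ⊔ B : Subgroup G) = Nat.card A * Nat.card B := by
    let f : A × B → G := fun p => (p.1 : G) * p.2
    have hf : Function.Injective f := by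
      rintro ⟨a, b⟩ ⟨a', b'⟩ h
      have h' : (a : G) * b = a' * b' := h
      have hmem : (a' : G)⁻¹ * a = (b' : G) * (b : G)⁻¹ := by
        rw [inv_mul_eq_iff_eq_mul, ← mul_assoc, eq_mul_inv_iff_mul_eq]; exact h'
      have h1 : (a' : G)⁻¹ * a ∈ A ⊓ B :=
        Subgroup.mem_inf.2 ⟨A.mul_mem (A.inv_mem a'.2) a.2, hmem ▸ B.mul_mem b'.2 (B.inv_mem b.2)⟩
      rw [hAB, Subgroup.mem_bot, inv_mul_eq_one] at h1
      obtain rfl : a' = a := Subtype.ext h1
      obtain rfl : b = b' := Subtype.ext (mul_left_cancel h')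
      rfl
    have hr : Set.range f = ((A ⊔ B : Subgroup G) : Set G) := by
      rw [Subgroup.coe_mul_of_right_le_normalizer_left A B hnorm]
      ext u
      constructor
      · rintro ⟨p, rfl⟩; exact Set.mul_mem_mul p.1.2 p.2.2
      · rintro ⟨a, ha, b, hb, rfl⟩; exact ⟨(⟨a, ha⟩, ⟨b, hb⟩), rfl⟩
    rw [← Nat.card_prod, ← Nat.card_range_of_injective hf, Nat.card_coe_set_eq,
      ← Nat.card_coe_set_eq]
    exact (Nat.card_congr (Equiv.setCongr hr)).symm
  have hBcard : Nat.card B = Nat.card A :=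
    Subgroup.card_map_of_injective (MulAut.conj L).injective
  rw [hjoin, card_ker, hBcard] at hprod
  exact (show ¬ ∃ a, 1255205709190661721292800 = a * a from by
    rintro ⟨a, ha⟩
    have := Nat.sqrt_eq a
    rw [← ha] at this
    rw [← this] at ha
    revert ha
    decide +kernel) ⟨_, hprod⟩

theorem isFi24' : Cfsg.IsFi24' Cfsg.Spor.Fi24' := by
  have e : (commutator Cfsg.Spor.Fi24) = sign.ker := commutator_eq
  show IsSimpleGroup (commutator Cfsg.Spor.Fi24) ∧ Nat.card (commutator Cfsg.Spor.Fi24) = _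
  rw [e]
  exact ⟨ker_simple, card_ker⟩

end Cfsg.Agent.Fi24
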