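import Cfsg.Agent.Fi24.Simple
import Cfsg.Prelude.Def_SporadicB
import Cfsg.Prelude.Def_FischerSpaces

/-!
The class of `l` in Fi24: 306936 3-transpositions, each centralised by `2 × Fi23`.
-/

set_option maxRecDepth 100000
set_option autoImplicit false

namespace Cfsg.Agent.Fi24

open Cfsg.Agent.CosetCert

/-- The transpositions. -/
abbrev D : Set G := conjugatesOf L

theorem mem_D {e : G} : e ∈ D ↔ ∃ g : G, g * L * g⁻¹ = e := by
  exact isConj_iff

/-- The element taking `l` to `a`. -/
abbrev toA : G := gen .k * gen .a * L * gen .k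

/-- The element taking `l` to `k`. -/
abbrev toK : G := L * gen .k

theorem toK_conj : toK * L * toK⁻¹ = gen .k := by
  have e := braid (x := Cfsg.Spor.Fi24.Gen.l) (y := .k) (by decide)
  rw [mul_inv_rev, gen_inv, gen_inv]
  calc L * gen .k * L * (gen .k * L) = (L * gen .k * L) * gen .k * L := by simp only [mul_assoc]
    _ = (gen .k * L * gen .k) * gen .k * L := by rw [e]
    _ = gen .k * (L * (gen .k * gen .k) * L) := by simp only [mul_assoc]
    _ = gen .k := by rw [gen_sq, mul_one, gen_sq, mul_one]

theorem toA_conj : toA * L * toA⁻¹ = gen .a := by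
  have e1 := toK_conj
  have e2 := braid (x := Cfsg.Spor.Fi24.Gen.a) (y := .k) (by decide)
  rw [mul_inv_rev, gen_inv, gen_inv] at e1
  simp only [mul_inv_rev, gen_inv]
  calc gen .k * gen .a * L * gen .k * L * (gen .k * (L * (gen .a * gen .k)))
      = gen .k * gen .a * (L * gen .k * L * (gen .k * L)) * gen .a * gen .k := by
        simp only [mul_assoc]
    _ = gen .k * (gen .a * gen .k * gen .a) * gen .k := by rw [e1]; simp only [mul_assoc]
    _ = gen .k * (gen .k * gen .a * gen .k) * gen .k := by rw [e2]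
    _ = (gen .k * gen .k) * gen .a * (gen .k * gen .k) := by simp only [mul_assoc]
    _ = gen .a := by rw [gen_sq, one_mul, mul_one]

theorem el_words : el [0, 1, 11, 0] = toA ∧ el [11, 0] = toK := by
  constructor
  · rw [show ([0, 1, 11, 0] : List Nat) = [0] ++ [1] ++ [11] ++ [0] from rfl, el_append, el_append,
      el_append, el_single (by norm_num), el_single (by norm_num), el_single (by norm_num)]
    rfl
  · rw [show ([11, 0] : List Nat) = [11] ++ [0] from rfl, el_append, el_single (by norm_num),
      el_single (by norm_num)]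
    rfl

theorem root_points :
    ((φ toA c0 : Fin 306936) : Nat) = Fi24Suborbits.rootOf 1 ∧
      ((φ toK c0 : Fin 306936) : Nat) = Fi24Suborbits.rootOf 31672 := by
  rw [← el_words.1, ← el_words.2, φ_apply _ (by decide), φ_apply _ (by decide)]
  decide +kernel

/-- A transposition is `l`, or conjugate under `H` to `a` or to `k`. -/
theorem D_cases {e : G} (he : e ∈ D) :
    e = L ∨ (∃ h ∈ H, h * gen .a * h⁻¹ = e) ∨ (∃ h ∈ H, h * gen .k * h⁻¹ = e) := by
  obtain ⟨g, rfl⟩ := mem_D.1 he
  have key : ∀ u v : G, φ u c0 = φ v c0 → u * L * u⁻¹ = v * L * v⁻¹ := by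
    intro u v h
    have hm : v⁻¹ * u ∈ H := fix_iff.1 (by
      rw [map_mul, Equiv.Perm.mul_apply, h, map_inv, ← Equiv.Perm.mul_apply, inv_mul_cancel,
        Equiv.Perm.one_apply])
    have hc := L_comm hm
    calc u * L * u⁻¹ = v * (v⁻¹ * u * L) * u⁻¹ := by simp only [mul_assoc, mul_inv_cancel_left]
      _ = v * (L * (v⁻¹ * u)) * u⁻¹ := by rw [hc]
      _ = v * L * v⁻¹ := by simp only [mul_assoc, mul_inv_cancel, mul_one]
  rcases Fi24Suborbits.cls_cases (φ g c0 : Fin 306936) with h | h | h
  · left
    rw [key g 1 (by rw [map_one, Equiv.Perm.one_apply]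
                    exact Fin.ext (Fi24Suborbits.cls_zero (φ g c0).2 h))]
    simp
  · right; left
    obtain ⟨u, hu, hug⟩ := exists_root (φ g c0) (φ toA c0) (by rw [h]; exact root_points.1)
    refine ⟨u, hu, ?_⟩
    rw [key g (u * toA) (by rw [map_mul, Equiv.Perm.mul_apply, hug]), ← toA_conj]
    simp only [mul_inv_rev, mul_assoc]
  · right; right
    obtain ⟨u, hu, hug⟩ := exists_root (φ g c0) (φ toK c0) (by rw [h]; exact root_points.2)
    refine ⟨u, hu, ?_⟩
    rw [key g (u * toK) (by rw [map_mul, Equiv.Perm.mul_apply, hug]), ← toK_conj]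
    simp only [mul_inv_rev, mul_assoc]

theorem k_not_comm : ¬ Commute (gen .k) L := by
  intro h
  have hb := braid (x := Cfsg.Spor.Fi24.Gen.k) (y := .l) (by decide)
  rw [h.eq, mul_assoc, gen_sq, mul_one, mul_assoc, h.eq, ← mul_assoc, gen_sq, one_mul] at hb
  have hk : φ (gen .k) c0 = c0 := by rw [← hb]; exact φ_H_c0 L_mem
  have := φ_apply [0] (by decide) c0
  rw [el_single (by norm_num)] at this
  rw [show gen (Fi24Index.dec 0).1 = gen .k from rfl, hk] at this
  revert this
  decide +kernel

theorem centralizer_L : Subgroup.centralizer ({L} : Set G) = H := by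
  ext g
  rw [Subgroup.mem_centralizer_singleton_iff]
  refine ⟨fun hg => ?_, fun hg => L_comm hg⟩
  refine fix_iff.1 (Fin.ext (Fi24Suborbits.cls_zero (φ g c0).2 ?_))
  rcases Fi24Suborbits.cls_cases (φ g c0 : Fin 306936) with h | h | h
  · exact h
  all_goals exfalso
  · obtain ⟨u, hu, hug⟩ := exists_root (φ g c0) (φ toA c0) (by rw [h]; exact root_points.1)
    have hm : (u * toA)⁻¹ * g ∈ H := fix_iff.1 (by
      rw [map_mul, Equiv.Perm.mul_apply, ← hug, ← Equiv.Perm.mul_apply (φ u), ← map_mul,
        map_inv, ← Equiv.Perm.mul_apply, inv_mul_cancel, Equiv.Perm.one_apply])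
    have hc : Commute (u * toA) L := by
      have := (show Commute g L from hg).mul_left
        (show Commute ((u * toA)⁻¹ * g)⁻¹ L from L_comm (inv_mem hm))
      simpa [mul_assoc] using this
    apply φ_separates.2.2
    have h2 : Commute (u * toA * L * (u * toA)⁻¹) u := by
      rw [hc.eq, mul_inv_cancel_right]; exact (L_comm hu).symm
    have e : gen .a = L := by
      have h1 : u * toA * L * (u * toA)⁻¹ = L := by rw [hc.eq, mul_inv_cancel_right]
      have h3 : u * gen .a * u⁻¹ = L := by
        rw [← toA_conj]; rw [mul_inv_rev] at h1; simpa [mul_assoc] using h1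
      have h4 : gen .a = u⁻¹ * L * u := by rw [← h3]; simp [mul_assoc]
      rw [h4, mul_assoc, ← L_comm hu, inv_mul_cancel_left]
    rw [e]
  · obtain ⟨u, hu, hug⟩ := exists_root (φ g c0) (φ toK c0) (by rw [h]; exact root_points.2)
    have hm : (u * toK)⁻¹ * g ∈ H := fix_iff.1 (by
      rw [map_mul, Equiv.Perm.mul_apply, ← hug, ← Equiv.Perm.mul_apply (φ u), ← map_mul,
        map_inv, ← Equiv.Perm.mul_apply, inv_mul_cancel, Equiv.Perm.one_apply])
    have hc : Commute (u * toK) L := by
      have := (show Commute g L from hg).mul_left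
        (show Commute ((u * toK)⁻¹ * g)⁻¹ L from L_comm (inv_mem hm))
      simpa [mul_assoc] using this
    apply k_not_comm
    have h1 : u * toK * L * (u * toK)⁻¹ = L := by rw [hc.eq, mul_inv_cancel_right]
    have h3 : u * gen .k * u⁻¹ = L := by
      rw [← toK_conj]; rw [mul_inv_rev] at h1; simpa [mul_assoc] using h1
    have h4 : gen .k = u⁻¹ * L * u := by rw [← h3]; simp [mul_assoc]
    rw [h4, mul_assoc, ← L_comm hu, inv_mul_cancel_left]

theorem card_D : Nat.card D = 306936 := by
  let f : G ⧸ H → D := fun q => ⟨q.out * L * q.out⁻¹, mem_D.2 ⟨q.out, rfl⟩⟩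
  have hbij : Function.Bijective f := by
    refine ⟨fun p q h => ?_, fun ⟨e, he⟩ => ?_⟩
    · have h' : p.out * L * p.out⁻¹ = q.out * L * q.out⁻¹ := congrArg Subtype.val h
      have hm : p.out⁻¹ * q.out ∈ H := by
        suffices h9 : p.out⁻¹ * q.out ∈ Subgroup.centralizer ({L} : Set G) by
          rwa [centralizer_L] at h9
        rw [Subgroup.mem_centralizer_singleton_iff]
        calc p.out⁻¹ * q.out * L = p.out⁻¹ * (q.out * L * q.out⁻¹) * q.out := by simp [mul_assoc]
          _ = L * (p.out⁻¹ * q.out) := by rw [← h']; simp [mul_assoc]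
      rw [← QuotientGroup.out_eq' p, ← QuotientGroup.out_eq' q]
      exact QuotientGroup.eq.2 hm
    · obtain ⟨g, rfl⟩ := mem_D.1 he
      refine ⟨(g : G ⧸ H), Subtype.ext ?_⟩
      obtain ⟨u, hu⟩ := QuotientGroup.mk_out_eq_mul H g
      show Quotient.out (g : G ⧸ H) * L * (Quotient.out (g : G ⧸ H))⁻¹ = g * L * g⁻¹
      rw [hu, mul_assoc g, L_comm u.2]
      simp [mul_assoc]
  rw [← Nat.card_congr (Equiv.ofBijective f hbij)]
  exact Fi24Index.index_val

theorem orderOf_D {d : G} (hd : d ∈ D) : orderOf d = 2 := by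
  obtain ⟨g, rfl⟩ := mem_D.1 hd
  refine orderOf_eq_prime ?_ ?_
  · rw [conj_pow, pow_two, gen_sq, mul_one, mul_inv_cancel]
  · intro h
    apply L_ne_one
    have := congrArg (fun x => g⁻¹ * x * g) h
    simpa [mul_assoc] using this

theorem three_class : Cfsg.IsThreeTranspositionClass D := by
  refine ⟨⟨fun d hd => orderOf_D hd, ?_⟩, ⟨L, mem_conjugatesOf_self, rfl⟩, ?_⟩
  · intro d hd e he
    obtain ⟨g, rfl⟩ := mem_D.1 hd
    have he' : g⁻¹ * e * g ∈ D := by
      obtain ⟨u, rfl⟩ := mem_D.1 he
      exact mem_D.2 ⟨g⁻¹ * u, by simp [mul_assoc]⟩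
    have e1 : g * L * g⁻¹ * e = g * (L * (g⁻¹ * e * g)) * g⁻¹ := by simp [mul_assoc]
    have h : (L * (g⁻¹ * e * g)) ^ 2 = 1 ∨ (L * (g⁻¹ * e * g)) ^ 3 = 1 := by
      generalize g⁻¹ * e * g = x at he' ⊢
      rcases D_cases he' with rfl | ⟨h, hh, rfl⟩ | ⟨h, hh, rfl⟩
      · left; rw [gen_sq, one_pow]
      · left
        have e2 : L * (h * gen .a * h⁻¹) = h * (L * gen .a) * h⁻¹ := by
          rw [← mul_assoc, ← mul_assoc, ← L_comm hh, mul_assoc h]
        have hn : ∀ z : Cfsg.Spor.Fi24.Gen, z ∈ Cfsg.Spor.coxNodes Cfsg.Spor.Fi24.edges := by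
          intro z; cases z <;> decide
        have h2 : (L * gen .a) ^ 2 = 1 := by
          have h2 := PresentedGroup.one_of_mem (rels := R)
            (x := (FreeGroup.of Cfsg.Spor.Fi24.Gen.l * FreeGroup.of .a) ^ 2)
            (Or.inl ⟨.l, hn _, .a, hn _, by rw [show Cfsg.Spor.coxLabel Cfsg.Spor.Fi24.edges .l .a = 2 by decide]⟩)
          rwa [map_pow, map_mul] at h2
        rw [e2, conj_pow, h2, mul_one, mul_inv_cancel]
      · right
        have e2 : L * (h * gen .k * h⁻¹) = h * (L * gen .k) * h⁻¹ := by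
          rw [← mul_assoc, ← mul_assoc, ← L_comm hh, mul_assoc h]
        have h3 : (L * gen .k) ^ 3 = 1 := by
          have hb := braid (x := Cfsg.Spor.Fi24.Gen.l) (y := .k) (by decide)
          calc (L * gen .k) ^ 3 = (L * gen .k * L) * (gen .k * L * gen .k) := by
                simp only [pow_succ, pow_zero, one_mul, mul_assoc]
            _ = (gen .k * L * gen .k) * (gen .k * L * gen .k) := by rw [hb]
            _ = gen .k * L * (gen .k * gen .k) * L * gen .k := by simp only [mul_assoc]
            _ = 1 := by rw [gen_sq, mul_one, mul_assoc (gen .k) L L, gen_sq, mul_one, gen_sq]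
        rw [e2, conj_pow, h3, mul_one, mul_inv_cancel]
    rw [e1, conj_pow, conj_pow]
    rcases h with h | h
    · left; rw [h, mul_one, mul_inv_cancel]
    · right; rw [h, mul_one, mul_inv_cancel]
  · rw [eq_top_iff, ← PresentedGroup.closure_range_of, Subgroup.closure_le]
    rintro _ ⟨x, rfl⟩
    exact Subgroup.subset_closure (isConj_L x)

/-- Fi23 inside the commutator subgroup: each node times `l`. -/
noncomputable def ξ : Cfsg.Spor.Fi23 →* G :=
  PresentedGroup.toGroup (f := fun x => gen (node x) * L) (by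
    have hn : ∀ z : Cfsg.Spor.Fi24.Gen, z ∈ Cfsg.Spor.coxNodes Cfsg.Spor.Fi24.edges := by
      intro z; cases z <;> decide
    have hc : ∀ x, Commute (gen (node x)) L := fun x => L_comm (gen_mem (node_ne x))
    have key : ∀ (l : List Cfsg.Spor.Fi23.Gen),
        (l.map fun x => gen (node x) * L).prod = (l.map fun x => gen (node x)).prod * L ^ l.length := by
      intro l
      induction l with
      | nil => simp
      | cons x t ih =>
        have hcx : Commute L (t.map fun x => gen (node x)).prod :=
          Commute.list_prod_right _ _ fun y hy => by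
            obtain ⟨z, _, rfl⟩ := List.mem_map.1 hy; exact (hc z).symm
        rw [List.map_cons, List.prod_cons, ih, List.map_cons, List.prod_cons, List.length_cons,
          pow_succ', mul_assoc, ← mul_assoc L, hcx.eq, mul_assoc, ← mul_assoc, mul_assoc (gen (node x))]
    have hpow : ∀ (n : Nat), L ^ (2 * n) = 1 := fun n => by rw [pow_mul, pow_two, gen_sq, one_pow]
    have hcL : ∀ l : List Cfsg.Spor.Fi23.Gen, Commute (l.map fun x => gen (node x)).prod L := fun l =>
      Commute.list_prod_left _ _ fun y hy => by obtain ⟨z, _, rfl⟩ := List.mem_map.1 hy; exact hc z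
    rintro r (⟨x, -, y, -, rfl⟩ | hr)
    · rw [map_pow, map_mul, FreeGroup.lift_apply_of, FreeGroup.lift_apply_of]
      have k2 := key [x, y]
      simp only [List.map_cons, List.map_nil, List.prod_cons, List.prod_nil, mul_one,
        List.length_cons, List.length_nil] at k2
      rw [k2, hpow 1, mul_one]
      have hm : Cfsg.Spor.coxLabel Cfsg.Spor.Fi24.edges (node x) (node y) =
          Cfsg.Spor.coxLabel Cfsg.Spor.Fi23.edges x y := by
        cases x <;> cases y <;> decide
      rw [← hm]
      have h := PresentedGroup.one_of_mem (rels := R)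
        (x := (FreeGroup.of (node x) * FreeGroup.of (node y)) ^
          Cfsg.Spor.coxLabel Cfsg.Spor.Fi24.edges (node x) (node y))
        (Or.inl ⟨node x, hn _, node y, hn _, rfl⟩)
      rwa [map_pow, map_mul] at h
    · simp only [Cfsg.Spor.Fi23.extra, List.mem_cons, List.not_mem_nil, or_false,
        Set.mem_ofPred_eq] at hr
      rcases hr with rfl | rfl
      · have k := key [.d, .c, .b, .d, .e, .f, .d, .h, .i]
        have hk := hcL [.d, .c, .b, .d, .e, .f, .d, .h, .i]
        simp only [List.map_cons, List.map_nil, List.prod_cons, List.prod_nil, mul_one,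
          List.length_cons, List.length_nil, node, ← mul_assoc] at k hk
        simp only [map_mul, map_pow, FreeGroup.lift_apply_of, node, ← mul_assoc]
        rw [k, (hk.pow_right _).mul_pow, ← pow_mul, show (0 + 1 + 1 + 1 + 1 + 1 + 1 + 1 + 1 + 1) * 10 = 2 * 45 from rfl,
          hpow, mul_one]
        have h10 := Y522Order.spider_ten
        simp only [map_mul] at h10
        exact h10
      · have k := key [.a, .b, .c, .d, .e, .f, .h]
        have hk := hcL [.a, .b, .c, .d, .e, .f, .h]
        simp only [List.map_cons, List.map_nil, List.prod_cons, List.prod_nil, mul_one,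
          List.length_cons, List.length_nil, node, ← mul_assoc] at k hk
        simp only [map_mul, map_pow, FreeGroup.lift_apply_of, node, ← mul_assoc]
        rw [k, (hk.pow_right _).mul_pow, ← L_eq, ← pow_mul, ← pow_succ',
          show (0 + 1 + 1 + 1 + 1 + 1 + 1 + 1) * 9 + 1 = 2 * 32 from rfl, hpow])

theorem ξ_of (x : Cfsg.Spor.Fi23.Gen) : ξ (PresentedGroup.of x) = gen (node x) * L :=
  PresentedGroup.toGroup.of _

theorem ξ_range : ξ.range ≤ H ⊓ sign.ker := by
  rw [MonoidHom.range_eq_map, ← PresentedGroup.closure_range_of, MonoidHom.map_closure,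
    Subgroup.closure_le]
  rintro _ ⟨_, ⟨x, rfl⟩, rfl⟩
  rw [ξ_of]
  refine ⟨mul_mem (gen_mem (node_ne x)) L_mem, ?_⟩
  show gen (node x) * L ∈ sign.ker
  rw [MonoidHom.mem_ker, map_mul, sign_gen, sign_gen]
  decide

theorem ξ_injective : Function.Injective ξ := by
  haveI := Fi23Order.order_and_simple.1
  rw [← MonoidHom.ker_eq_bot_iff]
  refine (ξ.normal_ker.eq_bot_or_eq_top).resolve_right fun h => ?_
  apply φ_separates.2.2
  have h1 : ξ (PresentedGroup.of Cfsg.Spor.Fi23.Gen.a) = 1 := by
    rw [← MonoidHom.mem_ker, h]; trivial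
  rw [ξ_of] at h1
  exact congrArg φ (mul_eq_one_iff_eq_inv.1 h1 |>.trans (gen_inv .l))

theorem isFi23_range : Cfsg.IsFi23 ξ.range := by
  let e := MonoidHom.ofInjective ξ_injective
  haveI := Fi23Order.order_and_simple.1
  haveI : Nontrivial ξ.range := e.symm.toEquiv.nontrivial
  exact ⟨IsSimpleGroup.isSimpleGroup_of_surjective (f := e.toMonoidHom) e.surjective,
    (Nat.card_congr e.toEquiv).symm.trans Fi23Order.order_and_simple.2⟩

end Cfsg.Agent.Fi24
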